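import Groth.Agent.Sga4h.H513.LocMain
import Groth.Agent.S0001

/-!
# (G4) with proper base change discharged (`S0001`)
-/

set_option autoImplicit false
universe u w

open CategoryTheory CategoryTheory.Limits AlgebraicGeometry Opposite

namespace Groth.Agent.Sga4h.H513.LocPBC

open Groth.Agent.Sga4h.H513.LocBase Groth.Agent.Sga4h.H923.DevDef
  Groth.Agent.Sga4h.H925.Defs Groth.Agent.Sga4h.H513.LocFin Groth.Agent.Sga4h.H925.Inv

/-- Proper base change. -/
theorem pbc : PBC.{u} :=
  fun X Y X' Y' f g f' g' h _ F hF => Groth.Agent.S0001.result X Y X' Y' f g f' g' h F hF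

variable {k : Type u} [Field k] [Fintype k] (K : Type u) [Field K] [Algebra k K] [Algebra.IsAlgebraic k K]
  [Fact FinFr.PullExact.{u}] {Λ : Type} [Field Λ] {A : Type w} [AddCommGroup A] (χ : Inv.{u + 1} Λ A)

/-- **(G4) for an additive invariant**, unconditionally. -/
theorem val_eq [IsSepClosed K] {P S Z : Scheme.{u}} (c : S ⟶ Spec (CommRingCat.of k))
    (f : P ⟶ S) [IsProper f] (z : Z ⟶ S) [IsFinite (z ≫ c)]
    (L : EtLam.Sheaf Λ P) (hL : EtCoh.IsTorsion L.carrier) (q : ℕ)
    [FiniteDimensional Λ (HK K (pullback.snd f z ≫ z ≫ c) (EtLam.pullback (pullback.fst f z) L) q)] :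
    χ.val _ (frobK K (z ≫ c) (EtLam.pullback z (rpush f q L)) 0) =
      χ.val _ (frobK K (pullback.snd f z ≫ z ≫ c) (EtLam.pullback (pullback.fst f z) L) q) :=
  LocMain.val_eq K χ pbc c f z L hL q

end Groth.Agent.Sga4h.H513.LocPBC
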