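import Groth.Agent.Etrest.FinPt
import Groth.Agent.Ega3B.ProjProper
import Mathlib.AlgebraicGeometry.Morphisms.Immersion
import Mathlib.AlgebraicGeometry.Morphisms.Separated

/-!
# Closure of the graph of a transcendental function

`exists_graph`: `W` integral, `a : W ⟶ S` proper, `S` separated, `κ(η_W)` not algebraic over `κ(a η_W)`. There are an
affine open `j : U ⟶ W`, an open immersion `j₁ : U ⟶ V`, `h : V ⟶ W` and `g : V ⟶ P^1_S` proper with `U = h⁻¹(U)`,
`h ≫ a = g ≫ π`, and `tr g v + 1 ≤ tr a η_W` for the points `v : V` in the generic fibre.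
-/

set_option autoImplicit false
universe u
open CategoryTheory CategoryTheory.Limits AlgebraicGeometry TopologicalSpace

namespace Groth.Agent.Sga4h.H513.Graph

open Groth.Agent.Etrest.FinTrAlg Groth.Agent.Etrest.FinTr Groth.Agent.Etrest.FinPt
  Groth.Agent.CycB.P1Chart Groth.Agent.CycB.GraphFac

variable {X S : Scheme.{u}}

/-- The image in `P^1_S` of a point with transcendental coordinate. -/
theorem tr_pt_ne_zero (f : X ⟶ S) (x : X) (t : X.residueField x)
    (ht : ¬ (f.residueFieldMap x).hom.IsIntegralElem t) :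
    tr (CohB1.ProjSpaceOver.toBase 1 S) (pt 0 (X.fromSpecResidueField x ≫ f) t
      (IsLocalRing.closedPoint (X.residueField x))) ≠ 0 := by
  let P := CohB1.ProjSpaceOver 1 S
  let π : P ⟶ S := CohB1.ProjSpaceOver.toBase 1 S
  let a : Spec (X.residueField x) ⟶ P := pt 0 (X.fromSpecResidueField x ≫ f) t
  have ha : a ≫ π = X.fromSpecResidueField x ≫ f := pt_toBase _ _ _
  let p₀ : Spec (X.residueField x) := IsLocalRing.closedPoint (X.residueField x)
  change tr π (a p₀) ≠ 0
  intro h5
  unfold tr at h5
  rw [trR_eq_zero_iff] at h5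
  -- factorization through the residue field
  obtain ⟨φ, hφ⟩ : ∃ φ : P.residueField (a p₀) ⟶ X.residueField x,
      Spec.map φ ≫ P.fromSpecResidueField (a p₀) = a :=
    ⟨_, Scheme.descResidueField_stalkClosedPointTo_fromSpecResidueField (X.residueField x) P a⟩
  -- the coordinate
  obtain ⟨b, hb⟩ := exists_pt (B := P.residueField (a p₀)) 0 (P.fromSpecResidueField (a p₀)) (by
    have h6 : P.fromSpecResidueField (a p₀) (IsLocalRing.closedPoint (P.residueField (a p₀))) = a p₀ :=
      Scheme.fromSpecResidueField_apply _ _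
    exact (congrArg (fun y => toZ S y ∈ Set.range (chartι.{u} 0)) h6).mpr
      (pt_mem_chart 0 (X.fromSpecResidueField x ≫ f) t p₀))
  have hbt : φ.hom b = t := by
    have h7 : pt 0 (Spec.map φ ≫ (P.fromSpecResidueField (a p₀) ≫ π)) (φ.hom b) =
        pt 0 (X.fromSpecResidueField x ≫ f) t := by
      rw [← map_pt]
      exact (congrArg (fun y => Spec.map φ ≫ y) hb.symm).trans hφ
    exact pt_injective h7
  apply ht
  -- the two maps from the residue field of the base
  have e : f x = π (a p₀) := by
    have h8 : (a ≫ π) p₀ = f x := by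
      rw [ha, Scheme.Hom.comp_apply]
      exact congrArg f (Scheme.fromSpecResidueField_apply _ _)
    rw [← h8, Scheme.Hom.comp_apply]
  have h9 : π.residueFieldMap (a p₀) ≫ φ = (S.residueFieldCongr e.symm).hom ≫ f.residueFieldMap x := by
    apply residue_congr
    rw [Spec.map_comp, Category.assoc, Scheme.Hom.SpecMap_residueFieldMap_fromSpecResidueField,
      Scheme.Hom.SpecMap_residueFieldMap_fromSpecResidueField, ← Category.assoc, hφ, ha]
  obtain ⟨g, hg, hg'⟩ := h5 b
  refine ⟨g.map (S.residueFieldCongr e.symm).hom.hom, hg.map _, ?_⟩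
  rw [Polynomial.eval₂_map]
  have h10 : (f.residueFieldMap x).hom.comp (S.residueFieldCongr e.symm).hom.hom =
      φ.hom.comp (π.residueFieldMap (a p₀)).hom := by
    have := congrArg CommRingCat.Hom.hom h9
    exact this.symm
  rw [h10, ← hbt, ← Polynomial.hom_eval₂, hg', map_zero]

/-- A transcendental function on an affine neighbourhood. -/
theorem exists_section (f : X ⟶ S) (x : X) (hx : tr f x ≠ 0) :
    ∃ (U : X.Opens) (_ : IsAffineOpen U) (hxU : x ∈ U) (s : Γ(X, U)),
      ¬ (f.residueFieldMap x).hom.IsIntegralElem (X.evaluation U x hxU s) := by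
  obtain ⟨t, ht⟩ : ∃ t : X.residueField x, ¬ (f.residueFieldMap x).hom.IsIntegralElem t := by
    unfold tr at hx
    rw [Ne, trR_eq_zero_iff] at hx
    by_contra hc
    push Not at hc
    exact hx hc
  obtain ⟨g, rfl⟩ := X.residue_surjective x t
  obtain ⟨V, hxV, s, rfl⟩ := X.presheaf.exists_germ_eq g
  obtain ⟨U, hU, hxU, hUV⟩ := exists_isAffineOpen_mem_and_subset (x := x) (U := V) hxV
  refine ⟨U, hU, hxU, X.presheaf.map (homOfLE hUV).op s, ?_⟩
  have : X.evaluation U x hxU (X.presheaf.map (homOfLE hUV).op s) =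
      X.residue x (X.presheaf.germ V x hxV s) := by
    change X.residue x (X.presheaf.germ U x hxU (X.presheaf.map (homOfLE hUV).op s)) = _
    rw [X.presheaf.germ_res_apply' (homOfLE hUV).op]
  rwa [this]

/-- A separated morphism which is an isomorphism over an open over which it has a dense section. -/
theorem isPullback_of_dense {U V W : Scheme.{u}} (j₁ : U ⟶ V) (h : V ⟶ W) (j : U ⟶ W)
    [IsOpenImmersion j₁] [IsOpenImmersion j] [IsSeparated h] (hd : DenseRange j₁) (w : j₁ ≫ h = j) :
    IsPullback j₁ (𝟙 U) h j := by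
  let s : U ⟶ pullback h j := pullback.lift j₁ (𝟙 U) (by simp [w])
  have h1 : s ≫ pullback.fst h j = j₁ := pullback.lift_fst _ _ _
  have h2 : s ≫ pullback.snd h j = 𝟙 U := pullback.lift_snd _ _ _
  have : IsOpenImmersion (s ≫ pullback.fst h j) := by rw [h1]; infer_instance
  have hs : IsOpenImmersion s := IsOpenImmersion.of_comp s (pullback.fst h j)
  have : IsClosedImmersion (s ≫ pullback.snd h j) := by rw [h2]; infer_instance
  have hc : IsClosedImmersion s := IsClosedImmersion.of_comp s (pullback.snd h j)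
  have hr : Set.range s = Set.univ := by
    refine Set.eq_univ_of_forall fun x => ?_
    by_contra hx
    obtain ⟨_, ⟨y, hy, hyu⟩, u, rfl⟩ := hd.inter_open_nonempty
      (pullback.fst h j '' (Set.range s)ᶜ)
      ((pullback.fst h j).isOpenEmbedding.isOpenMap _ s.isClosedEmbedding.isClosed_range.isOpen_compl)
      ⟨_, x, hx, rfl⟩
    apply hy
    refine ⟨u, (pullback.fst h j).isOpenEmbedding.injective ?_⟩
    rw [← Scheme.Hom.comp_apply, h1, hyu]
  have : IsIso s := isIso_of_isOpenImmersion_of_opensRange_eq_top s (Opens.ext hr)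
  exact IsPullback.of_iso_pullback ⟨by simp [w]⟩ (asIso s) h1 h2

/-- **Closure of the graph of a transcendental function.** -/
theorem exists_graph {W S : Scheme.{u}} [IsIntegral W] [QuasiSeparatedSpace W] (a : W ⟶ S) [IsProper a]
    (h0 : tr a (genericPoint W) ≠ 0) :
    ∃ (U V : Scheme.{u}) (j : U ⟶ W) (j₁ : U ⟶ V) (h : V ⟶ W) (g : V ⟶ CohB1.ProjSpaceOver 1 S),
      IsOpenImmersion j ∧ IsOpenImmersion j₁ ∧ IsProper h ∧ IsProper g ∧ IsAffine U ∧ Nonempty U ∧
      h ≫ a = g ≫ CohB1.ProjSpaceOver.toBase 1 S ∧ IsPullback j₁ (𝟙 U) h j ∧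
      ∀ v : V, a (h v) = a (genericPoint W) → tr g v + 1 ≤ tr a (genericPoint W) := by
  let T := CohB1.ProjSpaceOver 1 S
  let π : T ⟶ S := CohB1.ProjSpaceOver.toBase 1 S
  have hπ : IsProper π := Ega3B.ProjProper.isProper_toBase 1 S
  obtain ⟨U₀, hU₀, hη, s, hs⟩ := exists_section a (genericPoint W) h0
  let U : Scheme.{u} := Spec Γ(W, U₀)
  let j : U ⟶ W := hU₀.fromSpec
  let f : U ⟶ T := pt 0 (j ≫ a) s
  have hf : f ≫ π = j ≫ a := pt_toBase _ _ _
  let m : U ⟶ pullback a π := pullback.lift j f hf.symm
  have hm1 : m ≫ pullback.fst a π = j := pullback.lift_fst _ _ _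
  have hm2 : m ≫ pullback.snd a π = f := pullback.lift_snd _ _ _
  have : IsImmersion (m ≫ pullback.fst a π) := by rw [hm1]; infer_instance
  have hmi : IsImmersion m := IsImmersion.of_comp m (pullback.fst a π)
  have hqc : QuasiCompact m := by
    have : QuasiCompact j := inferInstance
    have : QuasiCompact (m ≫ pullback.fst a π) := by rw [hm1]; infer_instance
    exact QuasiCompact.of_comp m (pullback.fst a π)
  let V := m.image
  let j₁ : U ⟶ V := m.toImage
  let i : V ⟶ pullback a π := m.imageι
  have hi : j₁ ≫ i = m := m.toImage_imageι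
  let h : V ⟶ W := i ≫ pullback.fst a π
  let g : V ⟶ T := i ≫ pullback.snd a π
  have hga : h ≫ a = g ≫ π := by
    simp only [h, g, Category.assoc, pullback.condition]
  have hjh : j₁ ≫ h = j := by
    rw [← hm1, ← hi, Category.assoc]
  have hjg : j₁ ≫ g = f := by
    rw [← hm2, ← hi, Category.assoc]
  have hjd : DenseRange j₁ := m.toImage.denseRange
  -- the generic point
  let η := genericPoint W
  let p : Spec (W.residueField η) ⟶ U := Spec.map (W.evaluation U₀ η hη)
  have hp : p ≫ j = W.fromSpecResidueField η := by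
    change Spec.map (W.presheaf.germ U₀ η hη ≫ W.residue η) ≫ hU₀.fromSpec = _
    rw [Spec.map_comp, Category.assoc]
    exact congrArg (fun t => Spec.map (W.residue η) ≫ t) (hU₀.fromSpecStalk_eq_fromSpecStalk hη)
  let y : U := p (IsLocalRing.closedPoint (W.residueField η))
  have hy : j y = η := by
    have h1 : (p ≫ j) (IsLocalRing.closedPoint (W.residueField η)) = η := by
      rw [hp]
      exact Scheme.fromSpecResidueField_apply _ _
    exact h1
  have hfy : tr π (f y) ≠ 0 := by
    have h1 : p ≫ f = pt 0 (W.fromSpecResidueField η ≫ a) (W.evaluation U₀ η hη s) := by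
      rw [← hp, Category.assoc]
      exact map_pt _ _ _ _
    have h2 : f y = pt 0 (W.fromSpecResidueField η ≫ a) (W.evaluation U₀ η hη s)
        (IsLocalRing.closedPoint (W.residueField η)) := by
      rw [← h1]
      exact (Scheme.Hom.comp_apply _ _ _).symm
    rw [h2]
    exact tr_pt_ne_zero a η _ hs
  have : Nonempty U := ⟨y⟩
  let v₀ : V := j₁ y
  have hhv : h v₀ = η := by
    rw [← hy, ← hjh]
    exact (Scheme.Hom.comp_apply j₁ h y).symm
  have hgv : g v₀ = f y := by
    rw [← hjg]
    exact (Scheme.Hom.comp_apply j₁ g y).symm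
  have hspec : ∀ v : V, v₀ ⤳ v := by
    intro v
    rw [specializes_iff_mem_closure]
    have h1 : Set.range j₁ ⊆ closure {v₀} := by
      rintro _ ⟨u, rfl⟩
      rw [← specializes_iff_mem_closure]
      refine Specializes.map ?_ j₁.continuous
      rw [← j.isOpenEmbedding.isInducing.specializes_iff]
      change j y ⤳ j u
      rw [hy]
      exact genericPoint_specializes _
    exact (closure_minimal h1 isClosed_closure) (hjd v)
  have hth : tr h v₀ = 0 := by
    have h1 := tr_comp j₁ h y
    rw [hjh, tr_eq_zero j] at h1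
    exact (add_eq_zero.1 h1.symm).1
  have hA : tr (h ≫ a) v₀ = tr a η := by
    rw [tr_comp, hhv, hth, add_zero]
  refine ⟨U, V, j, j₁, h, g, inferInstance, inferInstance, inferInstance, inferInstance, inferInstance,
    inferInstance, hga, isPullback_of_dense j₁ h j hjd hjh, ?_⟩
  intro v hv
  by_cases hvv : v = v₀
  · have h2 : tr a η = tr π (f y) + tr g v₀ := by
      rw [← hA, hga, tr_comp, hgv]
    have h3 : 1 ≤ tr π (f y) := Cardinal.one_le_iff_ne_zero.2 hfy
    change tr g v + 1 ≤ tr a η
    rw [hvv, h2, add_comm]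
    exact add_le_add h3 le_rfl
  · have h1 := tr_add_one_le (h ≫ a) (hspec v) (fun e => hvv e.symm) (by
      rw [Scheme.Hom.comp_apply h a, Scheme.Hom.comp_apply h a, hv, hhv])
    rw [hA, hga, tr_comp g π] at h1
    exact (add_le_add le_add_self le_rfl).trans h1

end Groth.Agent.Sga4h.H513.Graph
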