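import Groth.Agent.Sga4h.H513.LocIso
import Groth.Agent.Sga4B.HDelta
import Groth.Agent.Sga4A.IntegralSection

/-!
# The edge map over a separably closed field: hypotheses

* `PBC`: the statement of proper base change (`S0001`), taken as a hypothesis in these files;
* `pfc_H0`: `H^0(Y', -)` is exact for `Y'` integral over a separably closed field;
* `subsingleton_tor`: `H^{n+1}(X_Ω, g'^* (tor J)) = 0` for `J` injective on a proper `X` over `S`, `Spec Ω ⟶ S`.
* `bijective_edgeQ`.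
-/

set_option autoImplicit false
universe u

open CategoryTheory CategoryTheory.Limits AlgebraicGeometry Opposite CategoryTheory.Abelian

namespace Groth.Agent.Sga4h.H513.LocBase

open Groth.Agent.Sga4B Groth.Agent.Sga4h.H513.LocDelta Groth.Agent.Etrest Groth.Agent.EtpbcB.SepClosedPoint
open scoped Groth.Agent.Sga4B.EtAbInst

/-- The statement of proper base change, `Groth.Agent.S0001.result`. -/
def PBC : Prop := ∀ (X Y X' Y' : Scheme.{u}) (f : X ⟶ Y) (g : Y' ⟶ Y)
    (f' : X' ⟶ Y') (g' : X' ⟶ X) (h : IsPullback g' f' f g) [IsProper f]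
    (F : EtCoh.Ab X), EtCoh.IsTorsion F →
    (∀ q : ℕ, Nonempty ((EtCoh.pull g).obj ((EtCoh.Rpush f q).obj F) ≅
      (EtCoh.Rpush f' q).obj ((EtCoh.pull g').obj F))) ∧
    IsIso (EtCoh.baseChange0 f g f' g' h.w F)

variable {Ω : Type u} [Field Ω] [IsSepClosed Ω]

/-- `H^0(Y', -)` is exact for `Y'` integral over a separably closed field. -/
theorem pfc_H0 {Y' : Scheme.{u}} (c : Y' ⟶ Spec (CommRingCat.of Ω)) [IsIntegralHom c] :
    PreservesFiniteColimits (H0 Y') := by
  have h1 : PreservesFiniteColimits (EtCoh.push c) := Sga4A.EtSplit.preservesFiniteColimits_push c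
  have h2 : PreservesFiniteColimits (Γtop (Spec (CommRingCat.of Ω))) := inferInstance
  have h3 : PreservesFiniteColimits (EtCoh.push c ⋙ Γtop (Spec (CommRingCat.of Ω))) :=
    comp_preservesFiniteColimits _ _
  have h4 : PreservesFiniteColimits (Γtop Y') := preservesFiniteColimits_of_natIso (gammaPush c)
  exact preservesFiniteColimits_of_natIso (DeltaH.ofHZeroIso Y').symm

theorem subsingleton_tor (hPBC : PBC.{u}) {X S X' : Scheme.{u}} (a : X ⟶ S) [IsProper a]
    (t : Spec (CommRingCat.of Ω) ⟶ S) (a' : X' ⟶ Spec (CommRingCat.of Ω)) (g' : X' ⟶ X)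
    (h : IsPullback g' a' a t) (J : EtCoh.Ab X) [Injective J] (n : ℕ) :
    Subsingleton (EtCoh.H X' ((EtCoh.pull g').obj (Tors.tor.obj J)) (n + 1)) := by
  obtain ⟨e⟩ := (hPBC X S X' (Spec (CommRingCat.of Ω)) a t a' g' h (Tors.tor.obj J)
    (TorsEt.isTorsion_tor J)).1 (n + 1)
  have h2 : IsZero ((EtCoh.Rpush a (n + 1)).obj (Tors.tor.obj J)) :=
    AcycTors.isZero_Rpush_tor a J (n + 1) (Nat.succ_pos n)
  have h3 : IsZero ((EtCoh.Rpush a' (n + 1)).obj ((EtCoh.pull g').obj (Tors.tor.obj J))) :=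
    ((EtCoh.pull t).map_isZero h2).of_iso e.symm
  obtain ⟨e'⟩ := Groth.Agent.EtpbcB.GammaRpush.gamma_Rpush a' ((EtCoh.pull g').obj (Tors.tor.obj J)) (n + 1)
  have h4 : Subsingleton ((Γtop (Spec (CommRingCat.of Ω))).obj
      ((EtCoh.Rpush a' (n + 1)).obj ((EtCoh.pull g').obj (Tors.tor.obj J)))) :=
    AddCommGrpCat.subsingleton_of_isZero ((Γtop (Spec (CommRingCat.of Ω))).map_isZero h3)
  exact e'.symm.injective.subsingleton

/-- The edge map `H^0(Y', g^* R^q f_* F) → H^q(X', g'^* F)` is bijective for `F` torsion, `f` proper, `Y'` integral over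
a separably closed field `Ω` and `X'` the base change of a scheme proper over `S` along `Spec Ω ⟶ S`. -/
theorem bijective_edgeQ (hPBC : PBC.{u}) {X Y X' Y' S : Scheme.{u}} (f : X ⟶ Y) (g : Y' ⟶ Y) (f' : X' ⟶ Y')
    (g' : X' ⟶ X) (f₀ : X' ⟶ Y) (w₁ : f' ≫ g = f₀) (w₂ : g' ≫ f = f₀) [IsProper f]
    (hsq : IsPullback g' f' f g) [PreservesFiniteColimits (H0 Y')]
    (a : X ⟶ S) [IsProper a] (t : Spec (CommRingCat.of Ω) ⟶ S) (a' : X' ⟶ Spec (CommRingCat.of Ω))
    (h : IsPullback g' a' a t) (F : EtCoh.Ab X) (hF : EtCoh.IsTorsion F) (q : ℕ) :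
    Function.Bijective (edgeQ f g f' g' f₀ w₁ w₂ F q) :=
  edgeQ_bijective f g f' g' f₀ w₁ w₂ hsq.w
    (fun G hG => (hPBC X Y X' Y' f g f' g' hsq G hG).2)
    (fun J _ n => subsingleton_tor hPBC a t a' g' h J n) F hF q

end Groth.Agent.Sga4h.H513.LocBase
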