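import Groth.Agent.Sga4h.H513.LocEdge
import Groth.Agent.Sga4B.BCDelta0
import Groth.Agent.Etbase.GabSec

/-!
# The edge map in all degrees

For a commutative square `g' ≫ f = f' ≫ g` such that `H^0(Y', -)` is exact (e.g. `Y'` finite over a separably
closed field), `edgeQ : H^0(Y', g^* R^q f_* F) →+ H^q(X', g'^* F)`, natural in `F` and compatible with
endomorphisms of `f'` over `f`; bijective on torsion sheaves if proper base change holds.
-/

set_option autoImplicit false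
universe u v v' u' w

open CategoryTheory CategoryTheory.Limits AlgebraicGeometry Opposite CategoryTheory.Abelian

namespace Groth.Agent.Sga4h.H513.LocDelta

open Groth.Agent.Localalg.DeltaFun Groth.Agent.Sga4B Groth.Agent.Sga4B.BCDelta Groth.Agent.Etrest.HPost
  Groth.Agent.Sga4h.H513.LocEdge Groth.Agent.Etrest
open scoped Groth.Agent.Sga4B.EtAbInst

section Comp

variable {C : Type u} [Category.{v} C] [Abelian C] {D : Type u'} [Category.{v'} D] [Abelian D]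

/-- Composition of morphisms of delta functors. -/
def comp {T T' T'' : DeltaFunctor C D} (Φ : DeltaHom T T') (Ψ : DeltaHom T' T'') : DeltaHom T T'' where
  app n := Φ.app n ≫ Ψ.app n
  comm hS n := by
    rw [NatTrans.comp_app, NatTrans.comp_app, Category.assoc, Ψ.comm hS n, ← Category.assoc, Φ.comm hS n,
      Category.assoc]

end Comp

section square

variable {X Y X' Y' : Scheme.{u}}

/-- `q ↦ H^q(X', g'^* F)`. -/
noncomputable def tD (g' : X' ⟶ X) : DeltaFunctor (EtCoh.Ab X) AddCommGrpCat.{u + 1} :=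
  (DeltaH.ofH X').precomp (EtCoh.pull g')

/-- `H^0(Y', -)`. -/
noncomputable abbrev H0 (Y' : Scheme.{u}) : EtCoh.Ab Y' ⥤ AddCommGrpCat.{u + 1} := (DeltaH.ofH Y').T 0

instance pfl_H0 (Y' : Scheme.{u}) : PreservesFiniteLimits (H0 Y') :=
  preservesFiniteLimits_of_natIso (DeltaH.ofHZeroIso Y').symm

/-- `q ↦ H^0(Y', g^* R^q f_* F)`. -/
noncomputable def sD (f : X ⟶ Y) (g : Y' ⟶ Y) [PreservesFiniteColimits (H0 Y')] :
    DeltaFunctor (EtCoh.Ab X) AddCommGrpCat.{u + 1} :=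
  (srcD f g).postcomp (H0 Y')

theorem sD_eff (f : X ⟶ Y) (g : Y' ⟶ Y) [PreservesFiniteColimits (H0 Y')] : (sD f g).Effaceable :=
  fun J _ n => (H0 Y').map_isZero (srcD_eff f g J n)

/-- `H^n(X', g'^* -)` and the action of an endomorphism of `X'` over `X`. -/
noncomputable def viaNat {s' : X' ⟶ X'} {g' : X' ⟶ X} (hs' : s' ≫ g' = g') (n : ℕ) :
    EtCoh.pull g' ⋙ (DeltaH.ofH X').T n ⟶ EtCoh.pull g' ⋙ (DeltaH.ofH X').T n where
  app F := AddCommGrpCat.ofHom (EtCore.HpullVia s' g' g' hs' F n)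
  naturality F G φ := by
    ext x
    exact HpullVia_post s' g' g' hs' φ n x

/-- The action of an endomorphism of `X'` over `X` on `tD`. -/
noncomputable def viaT {s' : X' ⟶ X'} {g' : X' ⟶ X} (hs' : s' ≫ g' = g') : DeltaHom (tD g') (tD g') where
  app n := viaNat hs' n
  comm hS n := by
    ext x
    exact (Groth.Agent.Etbase.GabSec.HpullVia_extClass s' g' g' hs' hS n x).symm

/-- The action of an endomorphism of `Y'` over `Y` on `sD`. -/
noncomputable def viaS (f : X ⟶ Y) {s : Y' ⟶ Y'} {g : Y' ⟶ Y} (hs : s ≫ g = g)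
    [PreservesFiniteColimits (H0 Y')] : DeltaHom (sD f g) (sD f g) where
  app n := Functor.whiskerLeft (EtCoh.Rpush f n) (viaNat hs 0)
  comm hS n := ((viaNat hs 0).naturality ((RpushD f).δ hS n)).symm

variable (f : X ⟶ Y) (g : Y' ⟶ Y) (f' : X' ⟶ Y') (g' : X' ⟶ X)
  (f₀ : X' ⟶ Y) (w₁ : f' ≫ g = f₀) (w₂ : g' ≫ f = f₀)

/-- The edge map as a natural transformation. -/
noncomputable def edgeNat (n : ℕ) :
    EtCoh.push f ⋙ EtCoh.pull g ⋙ (DeltaH.ofH Y').T n ⟶ EtCoh.pull g' ⋙ (DeltaH.ofH X').T n where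
  app F := AddCommGrpCat.ofHom (edge f g f' g' f₀ w₁ w₂ F n)
  naturality F G φ := by
    ext x
    exact edge_post f g f' g' f₀ w₁ w₂ φ n x

variable [PreservesFiniteColimits (H0 Y')]

/-- The edge map in degree zero. -/
noncomputable def phi0 : (sD f g).T 0 ⟶ (tD g').T 0 :=
  Functor.whiskerRight (zeroIso f).hom (EtCoh.pull g ⋙ H0 Y') ≫ edgeNat f g f' g' f₀ w₁ w₂ 0

theorem exists_phi : ∃ Φ : DeltaHom (sD f g) (tD g'), Φ.app 0 = phi0 f g f' g' f₀ w₁ w₂ :=
  exists_deltaHom (sD f g) (tD g') (sD_eff f g) (phi0 f g f' g' f₀ w₁ w₂)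

/-- The edge map as a morphism of delta functors. -/
noncomputable def phi : DeltaHom (sD f g) (tD g') := (exists_phi f g f' g' f₀ w₁ w₂).choose

theorem phi_zero : (phi f g f' g' f₀ w₁ w₂).app 0 = phi0 f g f' g' f₀ w₁ w₂ :=
  (exists_phi f g f' g' f₀ w₁ w₂).choose_spec

theorem phi0_via {s : Y' ⟶ Y'} {s' : X' ⟶ X'} (hs : s ≫ g = g) (hs' : s' ≫ g' = g')
    (hc : s' ≫ f' = f' ≫ s) :
    phi0 f g f' g' f₀ w₁ w₂ ≫ (viaT hs').app 0 = (viaS f hs).app 0 ≫ phi0 f g f' g' f₀ w₁ w₂ := by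
  have h1 : edgeNat f g f' g' f₀ w₁ w₂ 0 ≫ viaNat hs' 0 =
      Functor.whiskerLeft (EtCoh.push f) (viaNat hs 0) ≫ edgeNat f g f' g' f₀ w₁ w₂ 0 := by
    ext F x
    exact (edge_via f g f' g' f₀ w₁ w₂ hs hs' hc F 0 x).symm
  have h2 : Functor.whiskerRight (zeroIso f).hom (EtCoh.pull g ⋙ H0 Y') ≫
      Functor.whiskerLeft (EtCoh.push f) (viaNat hs 0) =
      Functor.whiskerLeft (EtCoh.Rpush f 0) (viaNat hs 0) ≫
        Functor.whiskerRight (zeroIso f).hom (EtCoh.pull g ⋙ H0 Y') := by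
    ext F : 2
    exact (viaNat hs 0).naturality ((zeroIso f).hom.app F)
  have h3 : phi0 f g f' g' f₀ w₁ w₂ ≫ (viaT hs').app 0 =
      Functor.whiskerRight (zeroIso f).hom (EtCoh.pull g ⋙ H0 Y') ≫
        (edgeNat f g f' g' f₀ w₁ w₂ 0 ≫ viaNat hs' 0) := Category.assoc _ _ _
  rw [h3, h1, ← Category.assoc, h2, Category.assoc]
  rfl

theorem phi_via {s : Y' ⟶ Y'} {s' : X' ⟶ X'} (hs : s ≫ g = g) (hs' : s' ≫ g' = g')
    (hc : s' ≫ f' = f' ≫ s) (n : ℕ) :
    (phi f g f' g' f₀ w₁ w₂).app n ≫ (viaT hs').app n = (viaS f hs).app n ≫ (phi f g f' g' f₀ w₁ w₂).app n :=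
  DeltaHom.ext_zero (sD_eff f g) (comp (phi f g f' g' f₀ w₁ w₂) (viaT hs'))
    (comp (viaS f hs) (phi f g f' g' f₀ w₁ w₂)) (by
      change (phi f g f' g' f₀ w₁ w₂).app 0 ≫ (viaT hs').app 0 =
        (viaS f hs).app 0 ≫ (phi f g f' g' f₀ w₁ w₂).app 0
      rw [phi_zero]
      exact phi0_via f g f' g' f₀ w₁ w₂ hs hs' hc) n

end square

end Groth.Agent.Sga4h.H513.LocDelta
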