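import Groth.Agent.EtpbcB.HRel
import Groth.Agent.EtpbcB.BCCalc
import Groth.Agent.Sga4B.HpullSquare
import Groth.Agent.Etrest.HPost

/-!
# The edge map `H^n(Y', g^* f_* F) → H^n(X', g'^* F)` of a commutative square

For a commutative square `g' ≫ f = f₀ = f' ≫ g` and an abelian etale sheaf `F` on `X`,
`edge : H^n(Y', g^* f_* F) →+ H^n(X', g'^* F)` is the relative pull back along `f'` followed by the counit of `f`.
* `edge_post`: naturality in `F`;
* `edge_via`: compatibility with endomorphisms `s` of `Y'` over `Y`, `s'` of `X'` over `X` (`s' ≫ f' = f' ≫ s`);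
* `edge_eq`: `edge = (counit of f') ∘ Hpull f' ∘ baseChange0`;
* `edge_bijective`: it is bijective in degree `0` when the base change map of `F` is an isomorphism.
-/

set_option autoImplicit false
universe u

open CategoryTheory CategoryTheory.Limits AlgebraicGeometry Opposite CategoryTheory.Abelian

namespace Groth.Agent.Sga4h.H513.LocEdge

open Groth.Agent.Etcore.PullCoh Groth.Agent.Sga4B.ExtCmp Groth.Agent.EtpbcB.HRel
  Groth.Agent.Etrest.HPost Groth.Agent.Sga4B.HpullSquare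

/-- Change of the reference scheme in the relative pullback. -/
theorem HpullVia_change {X Y Z T : Scheme.{u}} (f : X ⟶ Y) (t : Y ⟶ Z) (s : Z ⟶ T)
    (ft : X ⟶ Z) (ts : Y ⟶ T) (fts : X ⟶ T) (w₁ : f ≫ t = ft) (w₂ : t ≫ s = ts)
    (w₃ : f ≫ ts = fts) (w₄ : ft ≫ s = fts) (G : EtCoh.Ab T) (p : ℕ)
    (ξ : EtCoh.H Y ((EtCoh.pull t).obj ((EtCoh.pull s).obj G)) p) :
    EtCore.HpullVia f ts fts w₃ G p (post (th t s ts w₂ G) p ξ) =
      post (th ft s fts w₄ G) p (EtCore.HpullVia f t ft w₁ ((EtCoh.pull s).obj G) p ξ) := by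
  rw [HpullVia_eq, HpullVia_eq, post_apply, post_apply, cmp_mk₀, Ext.comp_assoc_of_third_deg_zero,
    Ext.mk₀_comp_mk₀, th_assoc f t s ft ts fts w₁ w₂ w₃ w₄, Ext.comp_assoc_of_third_deg_zero, Ext.mk₀_comp_mk₀]

theorem HpullVia_post {X Y T : Scheme.{u}} (f : X ⟶ Y)
    (tX : X ⟶ T) (tY : Y ⟶ T) (w : f ≫ tY = tX) {G G' : EtCoh.Ab T} (a : G ⟶ G') (p : ℕ)
    (ξ : EtCoh.H Y ((EtCoh.pull tY).obj G) p) :
    EtCore.HpullVia f tY tX w G' p (post ((EtCoh.pull tY).map a) p ξ) =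
      post ((EtCoh.pull tX).map a) p (EtCore.HpullVia f tY tX w G p ξ) :=
  HpullVia_nat f tX tY w a p ξ

theorem Hpull_post {X Y : Scheme.{u}} (f : X ⟶ Y) {G G' : EtCoh.Ab Y} (a : G ⟶ G') (p : ℕ)
    (ξ : EtCoh.H Y G p) :
    EtCore.Hpull f G' p (post a p ξ) = post ((EtCoh.pull f).map a) p (EtCore.Hpull f G p ξ) := by
  rw [Hpull_eq, Hpull_eq, post_apply, post_apply, cmp_mk₀]

theorem HpullVia_eq_post {X Y Z : Scheme.{u}} (f : X ⟶ Y) (t : Y ⟶ Z) (f₀ : X ⟶ Z)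
    (w : f ≫ t = f₀) (G : EtCoh.Ab Z) (p : ℕ) (ξ : EtCoh.H Y ((EtCoh.pull t).obj G) p) :
    EtCore.HpullVia f t f₀ w G p ξ = post (th f t f₀ w G) p (EtCore.Hpull f _ p ξ) := rfl

section square

variable {X Y X' Y' : Scheme.{u}} (f : X ⟶ Y) (g : Y' ⟶ Y) (f' : X' ⟶ Y') (g' : X' ⟶ X)
  (f₀ : X' ⟶ Y) (w₁ : f' ≫ g = f₀) (w₂ : g' ≫ f = f₀)

/-- The edge map. -/
noncomputable def edge (F : EtCoh.Ab X) (n : ℕ) :
    EtCoh.H Y' ((EtCoh.pull g).obj ((EtCoh.push f).obj F)) n →+ EtCoh.H X' ((EtCoh.pull g').obj F) n :=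
  (post (inv (th g' f f₀ w₂ ((EtCoh.push f).obj F)) ≫
    (EtCoh.pull g').map ((EtCoh.pullPushAdj f).counit.app F)) n).comp
      (EtCore.HpullVia f' g f₀ w₁ ((EtCoh.push f).obj F) n)

theorem edge_apply (F : EtCoh.Ab X) (n : ℕ) (x : EtCoh.H Y' ((EtCoh.pull g).obj ((EtCoh.push f).obj F)) n) :
    edge f g f' g' f₀ w₁ w₂ F n x = post (inv (th g' f f₀ w₂ ((EtCoh.push f).obj F)) ≫
    (EtCoh.pull g').map ((EtCoh.pullPushAdj f).counit.app F)) n
      (EtCore.HpullVia f' g f₀ w₁ ((EtCoh.push f).obj F) n x) := rfl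

theorem edge_post {F F' : EtCoh.Ab X} (φ : F ⟶ F') (n : ℕ)
    (x : EtCoh.H Y' ((EtCoh.pull g).obj ((EtCoh.push f).obj F)) n) :
    edge f g f' g' f₀ w₁ w₂ F' n (post ((EtCoh.pull g).map ((EtCoh.push f).map φ)) n x) =
      post ((EtCoh.pull g').map φ) n (edge f g f' g' f₀ w₁ w₂ F n x) := by
  have h1 : (EtCoh.pull f₀).map ((EtCoh.push f).map φ) ≫ inv (th g' f f₀ w₂ ((EtCoh.push f).obj F')) =
      inv (th g' f f₀ w₂ ((EtCoh.push f).obj F)) ≫
        (EtCoh.pull g').map ((EtCoh.pull f).map ((EtCoh.push f).map φ)) := by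
    rw [IsIso.comp_inv_eq, Category.assoc, th_nat, IsIso.inv_hom_id_assoc]
  have h2 : (EtCoh.pull f).map ((EtCoh.push f).map φ) ≫ (EtCoh.pullPushAdj f).counit.app F' =
      (EtCoh.pullPushAdj f).counit.app F ≫ φ := (EtCoh.pullPushAdj f).counit.naturality φ
  rw [edge_apply, edge_apply, HpullVia_post, post_comp, post_comp, ← Category.assoc, h1, Category.assoc,
    Category.assoc, ← Functor.map_comp, ← Functor.map_comp, h2]

theorem via_inv_th {s' : X' ⟶ X'} (hs' : s' ≫ g' = g') (hs₀ : s' ≫ f₀ = f₀) (G : EtCoh.Ab Y) (n : ℕ)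
    (y : EtCoh.H X' ((EtCoh.pull f₀).obj G) n) :
    EtCore.HpullVia s' g' g' hs' ((EtCoh.pull f).obj G) n (post (inv (th g' f f₀ w₂ G)) n y) =
      post (inv (th g' f f₀ w₂ G)) n (EtCore.HpullVia s' f₀ f₀ hs₀ G n y) := by
  have h := HpullVia_change s' g' f g' f₀ f₀ hs' w₂ hs₀ w₂ G n (post (inv (th g' f f₀ w₂ G)) n y)
  rw [post_comp, IsIso.inv_hom_id, post_id] at h
  rw [h, post_comp, IsIso.hom_inv_id, post_id]

/-- Equivariance of the edge map. -/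
theorem edge_via {s : Y' ⟶ Y'} {s' : X' ⟶ X'} (hs : s ≫ g = g) (hs' : s' ≫ g' = g')
    (hc : s' ≫ f' = f' ≫ s) (F : EtCoh.Ab X) (n : ℕ)
    (x : EtCoh.H Y' ((EtCoh.pull g).obj ((EtCoh.push f).obj F)) n) :
    edge f g f' g' f₀ w₁ w₂ F n (EtCore.HpullVia s g g hs _ n x) =
      EtCore.HpullVia s' g' g' hs' F n (edge f g f' g' f₀ w₁ w₂ F n x) := by
  have hs₀ : s' ≫ f₀ = f₀ := by rw [← w₂, ← Category.assoc, hs']
  have h1 : EtCore.HpullVia f' g f₀ w₁ ((EtCoh.push f).obj F) n (EtCore.HpullVia s g g hs _ n x) =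
      EtCore.HpullVia s' f₀ f₀ hs₀ ((EtCoh.push f).obj F) n
        (EtCore.HpullVia f' g f₀ w₁ ((EtCoh.push f).obj F) n x) := by
    have w₃ : (f' ≫ s) ≫ g = f₀ := by rw [Category.assoc, hs, w₁]
    rw [HpullVia_comp f' s (f' ≫ s) f₀ g g rfl w₁ hs w₃, HpullVia_comp s' f' (f' ≫ s) f₀ f₀ g hc hs₀ w₁ w₃]
  rw [edge_apply, edge_apply, h1, ← post_comp, ← post_comp, HpullVia_post,
    via_inv_th f g' f₀ w₂ hs' hs₀]


end square


section square2

variable {X Y X' Y' : Scheme.{u}} (f : X ⟶ Y) (g : Y' ⟶ Y) (f' : X' ⟶ Y') (g' : X' ⟶ X)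
  (w : g' ≫ f = f' ≫ g)

/-- `pullSquare` on the sections coming from the base. -/
theorem pullSquare_eta (G : EtCoh.Ab Y) (U : Y.Etale) (s : EtCoh.sect G U) :
    ((pullSquare g f f' g' w).hom.app G).hom.app _ (eta f' _ _ (eta g G U s)) =
      ((EtCoh.pull g').obj ((EtCoh.pull f).obj G)).obj.map (Groth.Agent.EtpbcB.BCCalc.theta w U).hom.op
        (eta g' _ _ (eta f G U s)) := by
  have h := unit_theta (EtCoh.pullPushAdj g) (EtCoh.pullPushAdj g') (EtCoh.pullPushAdj f)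
    (EtCoh.pullPushAdj f') (pushSquare g f f' g' w) G
  have h1 := congrArg (fun k => k.hom.app (op U) s) h
  have h2 := congrArg (fun k => k.hom (eta g' _ _ (eta f G U s))) (Groth.Agent.EtpbcB.BCCalc.sq_hom_app_app w
    ((EtCoh.pull g').obj ((EtCoh.pull f).obj G)) U)
  refine Eq.trans ?_ h2
  exact h1.symm

/-- `pullSquare` through the common composite. -/
theorem pullSquare_th (f₀ : X' ⟶ Y) (w₁ : f' ≫ g = f₀) (w₂ : g' ≫ f = f₀) (G : EtCoh.Ab Y) :
    (pullSquare g f f' g' w).hom.app G ≫ th g' f f₀ w₂ G = th f' g f₀ w₁ G := by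
  refine pull_hom_ext₂ f' g _ _ fun U s => ?_
  have h : (Groth.Agent.EtpbcB.BCCalc.theta w U).hom ≫ bcComp g' f f₀ w₂ U = bcComp f' g f₀ w₁ U := by
    apply hom_bc_ext
    have h1 := bcComp_left_fst g' f f₀ w₂ U
    have h2 := bcComp_left_fst f' g f₀ w₁ U
    have h3 := Groth.Agent.EtpbcB.BCCalc.theta_hom_left_pr w U
    rw [h2]
    exact (Category.assoc _ _ _).trans ((congrArg (fun k => _ ≫ k) h1).trans h3)
  have h4 := th_unit_res g' f f₀ w₂ G U s (Groth.Agent.EtpbcB.BCCalc.theta w U).hom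
  rw [map_comp_app, th_unit, pullSquare_eta]
  refine h4.trans ?_
  rw [h]

end square2

section zero

/-- `Hpull` in degree zero. -/
theorem Hpull_zero {X Y : Scheme.{u}} (f : X ⟶ Y) (G : EtCoh.Ab Y) (x : EtCoh.const Y ℤ ⟶ G) :
    EtCore.Hpull f G 0 (Ext.mk₀ x) = Ext.mk₀ ((EtCore.pullConst f ℤ).inv ≫ (EtCoh.pull f).map x) := by
  have h : EtCore.Hpull f G 0 (Ext.mk₀ x) =
    (Ext.mk₀ (EtCore.pullConst f ℤ).inv).comp ((Ext.mk₀ x).mapExactFunctor (EtCoh.pull f)) (zero_add 0) := rfl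
  rw [h, Ext.mapExactFunctor_mk₀, Ext.mk₀_comp_mk₀]

/-- `H^0(Y, f_* G) ≅ H^0(X, G)` through the pull back. -/
theorem bijective_counit_Hpull {X Y : Scheme.{u}} (f : X ⟶ Y) (G : EtCoh.Ab X) :
    Function.Bijective fun x : EtCoh.H Y ((EtCoh.push f).obj G) 0 =>
      (post ((EtCoh.pullPushAdj f).counit.app G) 0 (EtCore.Hpull f _ 0 x) : EtCoh.H X G 0) := by
  have key : ∀ a : EtCoh.const Y ℤ ⟶ (EtCoh.push f).obj G,
      post ((EtCoh.pullPushAdj f).counit.app G) 0 (EtCore.Hpull f _ 0 (Ext.mk₀ a)) =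
        Ext.mk₀ ((EtCore.pullConst f ℤ).inv ≫ ((EtCoh.pullPushAdj f).homEquiv _ _).symm a) := by
    intro a
    rw [Hpull_zero, post_apply, Ext.mk₀_comp_mk₀, Category.assoc, Adjunction.homEquiv_counit]
  constructor
  · intro x y hxy
    obtain ⟨a, rfl⟩ := (Ext.mk₀_bijective _ _).2 x
    obtain ⟨b, rfl⟩ := (Ext.mk₀_bijective _ _).2 y
    have h1 := (key a).symm.trans (hxy.trans (key b))
    have h2 := (Ext.mk₀_bijective _ _).1 h1
    have h3 := ((EtCoh.pullPushAdj f).homEquiv _ _).symm.injective ((cancel_epi _).1 h2)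
    rw [h3]
  · intro y
    obtain ⟨b, rfl⟩ := (Ext.mk₀_bijective _ _).2 y
    refine ⟨Ext.mk₀ (((EtCoh.pullPushAdj f).homEquiv _ _) ((EtCore.pullConst f ℤ).hom ≫ b)), ?_⟩
    refine (key _).trans ?_
    rw [Equiv.symm_apply_apply, Iso.inv_hom_id_assoc]

variable {X Y X' Y' : Scheme.{u}} (f : X ⟶ Y) (g : Y' ⟶ Y) (f' : X' ⟶ Y') (g' : X' ⟶ X)
  (f₀ : X' ⟶ Y) (w₁ : f' ≫ g = f₀) (w₂ : g' ≫ f = f₀) (w : g' ≫ f = f' ≫ g)

/-- The edge map through the base change map. -/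
theorem edge_eq (F : EtCoh.Ab X) (n : ℕ)
    (x : EtCoh.H Y' ((EtCoh.pull g).obj ((EtCoh.push f).obj F)) n) :
    edge f g f' g' f₀ w₁ w₂ F n x =
      post ((EtCoh.pullPushAdj f').counit.app ((EtCoh.pull g').obj F)) n
        (EtCore.Hpull f' _ n (post (EtCoh.baseChange0 f g f' g' w F) n x)) := by
  rw [Hpull_post, post_comp, map_baseChange0_counit g f f' g' w F, edge_apply, HpullVia_eq_post, post_comp,
    ← pullSquare_th f g f' g' w f₀ w₁ w₂, Category.assoc, IsIso.hom_inv_id_assoc]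

/-- The edge map is bijective in degree zero if the base change map is an isomorphism. -/
theorem edge_bijective (F : EtCoh.Ab X) (h : IsIso (EtCoh.baseChange0 f g f' g' w F)) :
    Function.Bijective (edge f g f' g' f₀ w₁ w₂ F 0) := by
  have h1 : (edge f g f' g' f₀ w₁ w₂ F 0 : _ → _) =
      (fun x => post ((EtCoh.pullPushAdj f').counit.app ((EtCoh.pull g').obj F)) 0 (EtCore.Hpull f' _ 0 x)) ∘
        (post (EtCoh.baseChange0 f g f' g' w F) 0) := by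
    funext x
    exact edge_eq f g f' g' f₀ w₁ w₂ w F 0 x
  rw [h1]
  refine (bijective_counit_Hpull f' _).comp ?_
  refine ⟨post_injective _, fun y => ⟨post (inv (EtCoh.baseChange0 f g f' g' w F)) 0 y, ?_⟩⟩
  rw [post_comp, IsIso.inv_hom_id, post_id]

end zero

end Groth.Agent.Sga4h.H513.LocEdge
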