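import Groth.Agent.Sga4h.H513.LocBase
import Groth.Agent.Sga4h.H925.Defs
import Groth.Agent.Sga4h.H923.DevDef

/-!
# `H^0(Z_K, R^q f_* L) ≅ H^q(P_K, L)` for `f : P ⟶ Z` proper and `Z` finite over `k`, with the Galois action
-/

set_option autoImplicit false
universe u

open CategoryTheory CategoryTheory.Limits AlgebraicGeometry Opposite CategoryTheory.Abelian

namespace Groth.Agent.Sga4h.H513.LocFin

open Groth.Agent.Sga4h.H513.LocDelta Groth.Agent.Sga4h.H513.LocBase Groth.Agent.Sga4h.H923.DevDef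
  Groth.Agent.Sga4h.H925.Defs Groth.Agent.Etrest.HPost

section Geo

variable {k : Type u} [Field k] {K : Type u} [Field K] [Algebra k K] {P Z : Scheme.{u}}
  {b : P ⟶ Spec (CommRingCat.of k)} {c : Z ⟶ Spec (CommRingCat.of k)} (f : P ⟶ Z) (w : f ≫ c = b)

theorem extHom_snd : FinFr.extHom (K := K) b f w ≫ FinFr.extStr K c = FinFr.extStr K b :=
  (pullback.lift_snd _ _ _).trans (Category.comp_id _)

theorem galAct_extHom (σ : K ≃ₐ[k] K) :
    FinFr.galAct b σ ≫ FinFr.extHom (K := K) b f w = FinFr.extHom (K := K) b f w ≫ FinFr.galAct c σ := by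
  apply pullback.hom_ext
  · have h1 : FinFr.extHom (K := K) b f w ≫ FinFr.extπ K c = FinFr.extπ K b ≫ f := FinFr.extHom_fst _ _ _
    have h2 : FinFr.galAct b σ ≫ FinFr.extπ K b = FinFr.extπ K b := FinFr.galAct_fst b σ
    have h3 : FinFr.galAct c σ ≫ FinFr.extπ K c = FinFr.extπ K c := FinFr.galAct_fst c σ
    change (FinFr.galAct b σ ≫ FinFr.extHom (K := K) b f w) ≫ FinFr.extπ K c =
      (FinFr.extHom (K := K) b f w ≫ FinFr.galAct c σ) ≫ FinFr.extπ K c
    rw [Category.assoc, Category.assoc, h1, h3, h1, ← Category.assoc, h2]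
  · have h1 := extHom_snd (K := K) f w
    have h2 := FinFr.galAct_snd b σ
    have h3 := FinFr.galAct_snd c σ
    change (FinFr.galAct b σ ≫ FinFr.extHom (K := K) b f w) ≫ FinFr.extStr K c =
      (FinFr.extHom (K := K) b f w ≫ FinFr.galAct c σ) ≫ FinFr.extStr K c
    rw [Category.assoc, Category.assoc, h1, h3, h2, ← Category.assoc, h1]

theorem isPullback_ext {P : Scheme.{u}} (b : P ⟶ Spec (CommRingCat.of k)) :
    IsPullback (FinFr.extπ K b) (FinFr.extStr K b) b (FinFr.specι k K) := IsPullback.of_hasPullback _ _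

theorem isPullback_extHom :
    IsPullback (FinFr.extπ K b) (FinFr.extHom (K := K) b f w) f (FinFr.extπ K c) := by
  refine IsPullback.of_bot (v₂₁ := FinFr.extStr K c) (v₂₂ := c) (h₃₁ := FinFr.specι k K) ?_
    (FinFr.extHom_fst _ _ _).symm (isPullback_ext c)
  rw [extHom_snd (K := K) f w, w]
  exact isPullback_ext b

end Geo

section Lin

variable {k : Type u} [Field k] (K : Type u) [Field K] [Algebra k K] [Fact FinFr.PullExact.{u}]
  {Λ : Type} [CommRing Λ]

/-- `FinFr.galLin` on `HK`. -/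
noncomputable def galK {P : Scheme.{u}} (b : P ⟶ Spec (CommRingCat.of k)) (σ : K ≃ₐ[k] K)
    (M : EtLam.Sheaf Λ P) (i : ℕ) : HK K b M i →ₗ[Λ] HK K b M i :=
  FinFr.galLin (K := K) b σ M i

theorem frobK_eq {P : Scheme.{u}} [Fintype k] [Algebra.IsAlgebraic k K] (b : P ⟶ Spec (CommRingCat.of k))
    (M : EtLam.Sheaf Λ P) (i : ℕ) : frobK K b M i = galK K b (FinFr.arith k K).symm M i := rfl

variable {K} in
theorem galK_apply {P : Scheme.{u}} (b : P ⟶ Spec (CommRingCat.of k)) (σ : K ≃ₐ[k] K)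
    (M : EtLam.Sheaf Λ P) (i : ℕ) (x : EtCoh.H (FinFr.ext K b) ((EtCoh.pull (FinFr.extπ K b)).obj M.carrier) i) :
    galK K b σ M i x = EtCore.HpullVia (FinFr.galAct b σ) (FinFr.extπ K b) (FinFr.extπ K b)
      (FinFr.galAct_fst b σ) M.carrier i x := rfl

omit [Fact FinFr.PullExact.{u}] in
theorem smul_HK {P : Scheme.{u}} (b : P ⟶ Spec (CommRingCat.of k)) (M : EtLam.Sheaf Λ P) (i : ℕ) (r : Λ)
    (x : HK K b M i) : r • x = post ((EtCoh.pull (FinFr.extπ K b)).map (M.act r)) i x := rfl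

/-- The edge map over `k`. -/
noncomputable def edgeFun {P Z : Scheme.{u}} {b : P ⟶ Spec (CommRingCat.of k)} {c : Z ⟶ Spec (CommRingCat.of k)}
    (f : P ⟶ Z) (w : f ≫ c = b) [PreservesFiniteColimits (H0 (FinFr.ext K c))]
    (L : EtLam.Sheaf Λ P) (q : ℕ) : HK K c (rpush f q L) 0 →+ HK K b L q :=
  edgeQ f (FinFr.extπ K c) (FinFr.extHom K b f w) (FinFr.extπ K b) (FinFr.extπ K b ≫ f)
      (FinFr.extHom_fst _ _ _) rfl L.carrier q

omit [Fact FinFr.PullExact.{u}] in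
/-- The edge map is `Λ`-linear. -/
theorem edgeFun_smul {P Z : Scheme.{u}} {b : P ⟶ Spec (CommRingCat.of k)} {c : Z ⟶ Spec (CommRingCat.of k)}
    (f : P ⟶ Z) (w : f ≫ c = b) [PreservesFiniteColimits (H0 (FinFr.ext K c))]
    (L : EtLam.Sheaf Λ P) (q : ℕ) (r : Λ) (x : HK K c (rpush f q L) 0) :
    edgeFun K f w L q (r • x) = r • edgeFun K f w L q x :=
  edgeQ_post f (FinFr.extπ K c) (FinFr.extHom K b f w) (FinFr.extπ K b) (FinFr.extπ K b ≫ f)
      (FinFr.extHom_fst _ _ _) rfl (L.act r) q x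

theorem edgeFun_gal {P Z : Scheme.{u}} {b : P ⟶ Spec (CommRingCat.of k)} {c : Z ⟶ Spec (CommRingCat.of k)}
    (f : P ⟶ Z) (w : f ≫ c = b) [PreservesFiniteColimits (H0 (FinFr.ext K c))]
    (L : EtLam.Sheaf Λ P) (q : ℕ) (σ : K ≃ₐ[k] K) (x : HK K c (rpush f q L) 0) :
    edgeFun K f w L q (galK K c σ (rpush f q L) 0 x) = galK K b σ L q (edgeFun K f w L q x) :=
  edgeQ_via f (FinFr.extπ K c) (FinFr.extHom K b f w)
    (FinFr.extπ K b) (FinFr.extπ K b ≫ f) (FinFr.extHom_fst _ _ _) rfl (FinFr.galAct_fst c σ)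
    (FinFr.galAct_fst b σ) (galAct_extHom f w σ) L.carrier q x

omit [Fact FinFr.PullExact.{u}] in
theorem edgeFun_bijective (hPBC : PBC.{u}) [IsSepClosed K] {P Z : Scheme.{u}} (b : P ⟶ Spec (CommRingCat.of k))
    (c : Z ⟶ Spec (CommRingCat.of k)) [IsProper b] (f : P ⟶ Z) [IsProper f] (w : f ≫ c = b)
    [PreservesFiniteColimits (H0 (FinFr.ext K c))]
    (L : EtLam.Sheaf Λ P) (hL : EtCoh.IsTorsion L.carrier) (q : ℕ) :
    Function.Bijective (edgeFun K f w L q) :=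
  bijective_edgeQ hPBC f (FinFr.extπ K c) (FinFr.extHom K b f w) (FinFr.extπ K b)
    (FinFr.extπ K b ≫ f) (FinFr.extHom_fst _ _ _) rfl (isPullback_extHom f w) b (FinFr.specι k K)
    (FinFr.extStr K b) (isPullback_ext b) L.carrier hL q

/-- **`H^0(Z_K, R^q f_* L) ≅ H^q(P_K, L)`** for `Z` finite over `k`, with the Galois action. -/
theorem exists_edge (hPBC : PBC.{u}) [IsSepClosed K] {P Z : Scheme.{u}} (b : P ⟶ Spec (CommRingCat.of k))
    (c : Z ⟶ Spec (CommRingCat.of k)) [IsFinite c] (f : P ⟶ Z) [IsProper f] (w : f ≫ c = b)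
    (L : EtLam.Sheaf Λ P) (hL : EtCoh.IsTorsion L.carrier) (q : ℕ) :
    ∃ e : HK K c (rpush f q L) 0 ≃ₗ[Λ] HK K b L q, ∀ (σ : K ≃ₐ[k] K) (x : HK K c (rpush f q L) 0),
      e (galK K c σ (rpush f q L) 0 x) = galK K b σ L q (e x) := by
  have hb : IsProper b := by rw [← w]; infer_instance
  have hint : IsIntegralHom (FinFr.extStr K c) :=
    MorphismProperty.of_isPullback (P := @IsIntegralHom) (isPullback_ext c) inferInstance
  have hH0 : PreservesFiniteColimits (H0 (FinFr.ext K c)) := pfc_H0 (FinFr.extStr K c)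
  let e : HK K c (rpush f q L) 0 →ₗ[Λ] HK K b L q :=
    { toFun := edgeFun K f w L q
      map_add' := map_add (edgeFun K f w L q)
      map_smul' := edgeFun_smul K f w L q }
  exact ⟨LinearEquiv.ofBijective e (edgeFun_bijective K hPBC b c f w L hL q), edgeFun_gal K f w L q⟩

/-- The case of the direct image to `Spec k`. -/
theorem exists_edge_spec (hPBC : PBC.{u}) [IsSepClosed K] {P : Scheme.{u}} (b : P ⟶ Spec (CommRingCat.of k))
    [IsProper b] (L : EtLam.Sheaf Λ P) (hL : EtCoh.IsTorsion L.carrier) (q : ℕ) :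
    ∃ e : HK K (𝟙 (Spec (CommRingCat.of k))) (rpush b q L) 0 ≃ₗ[Λ] HK K b L q,
      ∀ (σ : K ≃ₐ[k] K) (x : HK K (𝟙 (Spec (CommRingCat.of k))) (rpush b q L) 0),
        e (galK K (𝟙 (Spec (CommRingCat.of k))) σ (rpush b q L) 0 x) = galK K b σ L q (e x) :=
  exists_edge K hPBC b (𝟙 _) b (Category.comp_id b) L hL q

end Lin

end Groth.Agent.Sga4h.H513.LocFin
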