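import Groth.Agent.Sga4h.H513.LocDelta

/-!
# The edge map in all degrees is bijective on torsion sheaves
-/

set_option autoImplicit false
universe u v v' u' w

open CategoryTheory CategoryTheory.Limits AlgebraicGeometry Opposite CategoryTheory.Abelian

namespace Groth.Agent.Sga4h.H513.LocDelta

open Groth.Agent.Localalg.DeltaFun Groth.Agent.Sga4B Groth.Agent.Sga4B.BCDelta Groth.Agent.Etrest.HPost
  Groth.Agent.Sga4h.H513.LocEdge Groth.Agent.Etrest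
open scoped Groth.Agent.Sga4B.EtAbInst

section square

variable {X Y X' Y' : Scheme.{u}} (f : X ⟶ Y) (g : Y' ⟶ Y) (f' : X' ⟶ Y') (g' : X' ⟶ X)
  (f₀ : X' ⟶ Y) (w₁ : f' ≫ g = f₀) (w₂ : g' ≫ f = f₀) [PreservesFiniteColimits (H0 Y')]

theorem isIso_phi [QuasiCompact f] [QuasiSeparated f] (w : g' ≫ f = f' ≫ g)
    (h0 : ∀ F : EtCoh.Ab X, EtCoh.IsTorsion F → IsIso (EtCoh.baseChange0 f g f' g' w F))
    (hv : ∀ (J : EtCoh.Ab X) [Injective J] (n : ℕ),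
      Subsingleton (EtCoh.H X' ((EtCoh.pull g').obj (Tors.tor.obj J)) (n + 1)))
    (q : ℕ) (F : EtCoh.Ab X) (hF : EtCoh.IsTorsion F) :
    IsIso (((phi f g f' g' f₀ w₁ w₂).app q).app F) := by
  refine DeltaH.isIso_of_class (phi f g f' g' f₀ w₁ w₂) EtCoh.IsTorsion
    (fun p _ hG => TorsEt.isTorsion_of_epi p hG) ?_ ?_ q F hF
  · intro G hG
    rw [phi_zero]
    have h1 : IsIso ((edgeNat f g f' g' f₀ w₁ w₂ 0).app G) :=
      (ConcreteCategory.isIso_iff_bijective _).2 (edge_bijective f g f' g' f₀ w₁ w₂ w G (h0 G hG))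
    have h2 : IsIso ((Functor.whiskerRight (zeroIso f).hom (EtCoh.pull g ⋙ H0 Y')).app G) :=
      inferInstance
    exact IsIso.comp_isIso' h2 h1
  · intro G hG
    obtain ⟨J, hJ, i, hi⟩ := AcycTors.exists_mono_tor G hG
    refine ⟨_, i, hi, TorsEt.isTorsion_tor J, fun n => ⟨?_, ?_⟩⟩
    · have h2 : IsZero ((EtCoh.Rpush f (n + 1)).obj (Tors.tor.obj J)) :=
        AcycTors.isZero_Rpush_tor f J (n + 1) (Nat.succ_pos n)
      exact (EtCoh.pull g ⋙ H0 Y').map_isZero h2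
    · have := hv J n
      exact AddCommGrpCat.isZero_of_subsingleton
        (AddCommGrpCat.of (EtCoh.H X' ((EtCoh.pull g').obj (Tors.tor.obj J)) (n + 1)))

/-- The edge map in degree `q` as a natural transformation. -/
noncomputable def phiNat (q : ℕ) : EtCoh.Rpush f q ⋙ EtCoh.pull g ⋙ H0 Y' ⟶
    EtCoh.pull g' ⋙ (DeltaH.ofH X').T q :=
  (phi f g f' g' f₀ w₁ w₂).app q

theorem phiNat_via {s : Y' ⟶ Y'} {s' : X' ⟶ X'} (hs : s ≫ g = g) (hs' : s' ≫ g' = g')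
    (hc : s' ≫ f' = f' ≫ s) (q : ℕ) :
    phiNat f g f' g' f₀ w₁ w₂ q ≫ viaNat hs' q =
      Functor.whiskerLeft (EtCoh.Rpush f q) (viaNat hs 0) ≫ phiNat f g f' g' f₀ w₁ w₂ q :=
  phi_via f g f' g' f₀ w₁ w₂ hs hs' hc q

theorem phiNat_isIso [QuasiCompact f] [QuasiSeparated f] (w : g' ≫ f = f' ≫ g)
    (h0 : ∀ F : EtCoh.Ab X, EtCoh.IsTorsion F → IsIso (EtCoh.baseChange0 f g f' g' w F))
    (hv : ∀ (J : EtCoh.Ab X) [Injective J] (n : ℕ),
      Subsingleton (EtCoh.H X' ((EtCoh.pull g').obj (Tors.tor.obj J)) (n + 1)))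
    (F : EtCoh.Ab X) (hF : EtCoh.IsTorsion F) (q : ℕ) : IsIso ((phiNat f g f' g' f₀ w₁ w₂ q).app F) :=
  isIso_phi f g f' g' f₀ w₁ w₂ w h0 hv q F hF

/-- The edge map `H^0(Y', g^* R^q f_* F) →+ H^q(X', g'^* F)`. -/
noncomputable def edgeQ (F : EtCoh.Ab X) (q : ℕ) :
    EtCoh.H Y' ((EtCoh.pull g).obj ((EtCoh.Rpush f q).obj F)) 0 →+ EtCoh.H X' ((EtCoh.pull g').obj F) q :=
  ((phiNat f g f' g' f₀ w₁ w₂ q).app F).hom

theorem edgeQ_post {F G : EtCoh.Ab X} (φ : F ⟶ G) (q : ℕ)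
    (x : EtCoh.H Y' ((EtCoh.pull g).obj ((EtCoh.Rpush f q).obj F)) 0) :
    edgeQ f g f' g' f₀ w₁ w₂ G q (post ((EtCoh.pull g).map ((EtCoh.Rpush f q).map φ)) 0 x) =
      post ((EtCoh.pull g').map φ) q (edgeQ f g f' g' f₀ w₁ w₂ F q x) := by
  have h := (phiNat f g f' g' f₀ w₁ w₂ q).naturality φ
  exact congrArg (fun t => t.hom x) h

theorem edgeQ_via {s : Y' ⟶ Y'} {s' : X' ⟶ X'} (hs : s ≫ g = g) (hs' : s' ≫ g' = g')
    (hc : s' ≫ f' = f' ≫ s) (F : EtCoh.Ab X) (q : ℕ)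
    (x : EtCoh.H Y' ((EtCoh.pull g).obj ((EtCoh.Rpush f q).obj F)) 0) :
    edgeQ f g f' g' f₀ w₁ w₂ F q (EtCore.HpullVia s g g hs _ 0 x) =
      EtCore.HpullVia s' g' g' hs' F q (edgeQ f g f' g' f₀ w₁ w₂ F q x) := by
  have h := phiNat_via f g f' g' f₀ w₁ w₂ hs hs' hc q
  have h2 := NatTrans.congr_app h F
  exact (congrArg (fun t => t.hom x) h2).symm

theorem edgeQ_bijective [QuasiCompact f] [QuasiSeparated f] (w : g' ≫ f = f' ≫ g)
    (h0 : ∀ F : EtCoh.Ab X, EtCoh.IsTorsion F → IsIso (EtCoh.baseChange0 f g f' g' w F))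
    (hv : ∀ (J : EtCoh.Ab X) [Injective J] (n : ℕ),
      Subsingleton (EtCoh.H X' ((EtCoh.pull g').obj (Tors.tor.obj J)) (n + 1)))
    (F : EtCoh.Ab X) (hF : EtCoh.IsTorsion F) (q : ℕ) :
    Function.Bijective (edgeQ f g f' g' f₀ w₁ w₂ F q) := by
  have := phiNat_isIso f g f' g' f₀ w₁ w₂ w h0 hv F hF q
  exact ConcreteCategory.bijective_of_isIso ((phiNat f g f' g' f₀ w₁ w₂ q).app F)

end square

end Groth.Agent.Sga4h.H513.LocDelta
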