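import Groth.Agent.Sga4h.H513.LocFin
import Groth.Agent.Etcore.Torsion

/-!
# (G4): `H^0(Z_K, z^* R^q f_* L) ≅ H^q((P ×_S Z)_K, L)` with the Galois action, `Z` finite over `k`

Proper base change is an explicit hypothesis (`hPBC : PBC`), see `Groth.Agent.Sga4h.H513.LocPBC`.
-/

set_option autoImplicit false
universe u w

open CategoryTheory CategoryTheory.Limits AlgebraicGeometry Opposite CategoryTheory.Abelian

namespace Groth.Agent.Sga4h.H513.LocMain

open Groth.Agent.Sga4h.H513.LocDelta Groth.Agent.Sga4h.H513.LocBase Groth.Agent.Sga4h.H923.DevDef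
  Groth.Agent.Sga4h.H925.Defs Groth.Agent.Etrest.HPost Groth.Agent.Sga4h.H513.LocFin Groth.Agent.Sga4B.BCDelta
  Groth.Agent.Etcore.LamFG Groth.Agent.Sga4h.H925.Inv

variable {k : Type u} [Field k] (K : Type u) [Field K] [Algebra k K] [Fact FinFr.PullExact.{u}]
  {Λ : Type} [CommRing Λ]

/-- Transport of `HK` along an equivariant isomorphism. -/
theorem exists_map {P : Scheme.{u}} (b : P ⟶ Spec (CommRingCat.of k)) (M₁ M₂ : EtLam.Sheaf Λ P)
    (φ : M₁.carrier ⟶ M₂.carrier) [IsIso φ] (hφ : Equi M₁.act M₂.act φ) (n : ℕ) :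
    ∃ e : HK K b M₁ n ≃ₗ[Λ] HK K b M₂ n, ∀ (σ : K ≃ₐ[k] K) (x : HK K b M₁ n),
      e (galK K b σ M₁ n x) = galK K b σ M₂ n (e x) := by
  have hb : Function.Bijective (post ((EtCoh.pull (FinFr.extπ K b)).map φ) n) :=
    ⟨fun x y h => by
        have := congrArg (post (inv ((EtCoh.pull (FinFr.extπ K b)).map φ)) n) h
        rwa [post_comp, post_comp, IsIso.hom_inv_id, post_id, post_id] at this,
      fun y => ⟨post (inv ((EtCoh.pull (FinFr.extπ K b)).map φ)) n y, by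
        rw [post_comp, IsIso.inv_hom_id, post_id]⟩⟩
  have hs : ∀ (r : Λ) (x : EtCoh.H (FinFr.ext K b) ((EtCoh.pull (FinFr.extπ K b)).obj M₁.carrier) n),
      post ((EtCoh.pull (FinFr.extπ K b)).map φ) n
        (post ((EtCoh.pull (FinFr.extπ K b)).map (M₁.act r)) n x) =
      post ((EtCoh.pull (FinFr.extπ K b)).map (M₂.act r)) n
        (post ((EtCoh.pull (FinFr.extπ K b)).map φ) n x) := by
    intro r x
    rw [post_comp, post_comp, ← Functor.map_comp, ← Functor.map_comp]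
    exact congrArg (fun t => post ((EtCoh.pull (FinFr.extπ K b)).map t) n x) (hφ r)
  let e : HK K b M₁ n →ₗ[Λ] HK K b M₂ n :=
    { toFun := post ((EtCoh.pull (FinFr.extπ K b)).map φ) n
      map_add' := map_add (post ((EtCoh.pull (FinFr.extπ K b)).map φ) n)
      map_smul' := hs }
  exact ⟨LinearEquiv.ofBijective e hb, fun σ x =>
    (LocEdge.HpullVia_post (FinFr.galAct b σ) (FinFr.extπ K b) (FinFr.extπ K b)
      (FinFr.galAct_fst b σ) φ n x).symm⟩

omit [Fact FinFr.PullExact.{u}] in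
/-- Proper base change for `R^q f_*` of a torsion `Λ`-sheaf, equivariantly. -/
theorem exists_bc (hPBC : PBC.{u}) {P S Z P' : Scheme.{u}} (f : P ⟶ S) [IsProper f] (z : Z ⟶ S)
    (f' : P' ⟶ Z) (g' : P' ⟶ P) (h : IsPullback g' f' f z)
    (L : EtLam.Sheaf Λ P) (hL : EtCoh.IsTorsion L.carrier) (q : ℕ) :
    ∃ φ : (EtLam.pullback z (rpush f q L)).carrier ⟶ (rpush f' q (EtLam.pullback g' L)).carrier,
      IsIso φ ∧ Equi (EtLam.pullback z (rpush f q L)).act (rpush f' q (EtLam.pullback g' L)).act φ :=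
  ⟨(BCq h.w q).app L.carrier,
    isIso_BC_of h.w (fun G hG => (hPBC P S P' Z f z f' g' h G hG).2)
      (fun G hG => (hPBC P S P' Z f z f' g' h G hG).1) q L.carrier hL,
    fun r => (BCq h.w q).naturality (L.act r)⟩

/-- **(G4)**, for any cartesian square. -/
theorem main' (hPBC : PBC.{u}) [IsSepClosed K] {P S Z P' : Scheme.{u}} (f : P ⟶ S) [IsProper f] (z : Z ⟶ S)
    (f' : P' ⟶ Z) (g' : P' ⟶ P) (h : IsPullback g' f' f z) (c : Z ⟶ Spec (CommRingCat.of k)) [IsFinite c]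
    (b : P' ⟶ Spec (CommRingCat.of k)) (w : f' ≫ c = b)
    (L : EtLam.Sheaf Λ P) (hL : EtCoh.IsTorsion L.carrier) (q : ℕ) :
    ∃ e : HK K c (EtLam.pullback z (rpush f q L)) 0 ≃ₗ[Λ] HK K b (EtLam.pullback g' L) q,
      ∀ (σ : K ≃ₐ[k] K) (x : HK K c (EtLam.pullback z (rpush f q L)) 0),
        e (galK K c σ (EtLam.pullback z (rpush f q L)) 0 x) = galK K b σ (EtLam.pullback g' L) q (e x) := by
  have : IsProper f' := MorphismProperty.of_isPullback h inferInstance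
  obtain ⟨φ, hφ, hE⟩ := exists_bc hPBC f z f' g' h L hL q
  obtain ⟨e₁, he₁⟩ := exists_map K c (EtLam.pullback z (rpush f q L)) (rpush f' q (EtLam.pullback g' L)) φ hE 0
  obtain ⟨e₂, he₂⟩ := exists_edge K hPBC b c f' w (EtLam.pullback g' L)
    (Groth.Agent.Etcore.Torsion.isTorsion_pull g' L.carrier hL) q
  refine ⟨e₁.trans e₂, fun σ x => ?_⟩
  rw [LinearEquiv.trans_apply, he₁, he₂, LinearEquiv.trans_apply]

/-- **(G4)**. -/
theorem main (hPBC : PBC.{u}) [IsSepClosed K] {P S Z : Scheme.{u}} (c : S ⟶ Spec (CommRingCat.of k))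
    (f : P ⟶ S) [IsProper f] (z : Z ⟶ S) [IsFinite (z ≫ c)]
    (L : EtLam.Sheaf Λ P) (hL : EtCoh.IsTorsion L.carrier) (q : ℕ) :
    ∃ e : HK K (z ≫ c) (EtLam.pullback z (rpush f q L)) 0 ≃ₗ[Λ]
        HK K (pullback.snd f z ≫ z ≫ c) (EtLam.pullback (pullback.fst f z) L) q,
      ∀ (σ : K ≃ₐ[k] K) (x : HK K (z ≫ c) (EtLam.pullback z (rpush f q L)) 0),
        e (galK K (z ≫ c) σ (EtLam.pullback z (rpush f q L)) 0 x) =
          galK K (pullback.snd f z ≫ z ≫ c) σ (EtLam.pullback (pullback.fst f z) L) q (e x) :=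
  main' K hPBC f z (pullback.snd f z) (pullback.fst f z) (IsPullback.of_hasPullback f z) (z ≫ c)
    (pullback.snd f z ≫ z ≫ c) rfl L hL q

end Groth.Agent.Sga4h.H513.LocMain

namespace Groth.Agent.Sga4h.H513.LocMain

open Groth.Agent.Sga4h.H513.LocBase Groth.Agent.Sga4h.H923.DevDef
  Groth.Agent.Sga4h.H925.Defs Groth.Agent.Sga4h.H513.LocFin Groth.Agent.Sga4h.H925.Inv

variable {k : Type u} [Field k] [Fintype k] (K : Type u) [Field K] [Algebra k K] [Algebra.IsAlgebraic k K]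
  [Fact FinFr.PullExact.{u}] {Λ : Type} [Field Λ] {A : Type w} [AddCommGroup A] (χ : Inv.{u + 1} Λ A)

/-- **(G4) for an additive invariant.** -/
theorem val_eq (hPBC : PBC.{u}) [IsSepClosed K] {P S Z : Scheme.{u}} (c : S ⟶ Spec (CommRingCat.of k))
    (f : P ⟶ S) [IsProper f] (z : Z ⟶ S) [IsFinite (z ≫ c)]
    (L : EtLam.Sheaf Λ P) (hL : EtCoh.IsTorsion L.carrier) (q : ℕ)
    [FiniteDimensional Λ (HK K (pullback.snd f z ≫ z ≫ c) (EtLam.pullback (pullback.fst f z) L) q)] :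
    χ.val _ (frobK K (z ≫ c) (EtLam.pullback z (rpush f q L)) 0) =
      χ.val _ (frobK K (pullback.snd f z ≫ z ≫ c) (EtLam.pullback (pullback.fst f z) L) q) := by
  obtain ⟨e, he⟩ := main K hPBC c f z L hL q
  exact χ.val_congr e _ _ (he (FinFr.arith k K).symm)

end Groth.Agent.Sga4h.H513.LocMain
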