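import Groth.Agent.Sga4h.H513.LocMain

/-!
# Transport of `HK` along isomorphisms of `k`-schemes
-/

set_option autoImplicit false
universe u w

open CategoryTheory CategoryTheory.Limits AlgebraicGeometry Opposite CategoryTheory.Abelian

namespace Groth.Agent.Sga4h.H513.LocPull

open Groth.Agent.Sga4h.H925.Defs Groth.Agent.Etrest.HPost Groth.Agent.Sga4h.H513.LocFin
  Groth.Agent.Etcore.LamFG Groth.Agent.Sga4h.H925.Inv Groth.Agent.Etcore.PullCoh Groth.Agent.EtpbcB.HRel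
  Groth.Agent.Sga4h.H513.LocEdge

section Abs

variable {X Y X' Y' : Scheme.{u}} (g : X ⟶ Y) (πY : Y' ⟶ Y) (g' : X' ⟶ Y') (πX : X' ⟶ X)
  (f₀ : X' ⟶ Y) (w₁ : g' ≫ πY = f₀) (w₂ : πX ≫ g = f₀)

/-- `H^n(Y', πY^* F) →+ H^n(X', πX^* g^* F)`. -/
noncomputable def pb (F : EtCoh.Ab Y) (n : ℕ) :
    EtCoh.H Y' ((EtCoh.pull πY).obj F) n →+ EtCoh.H X' ((EtCoh.pull πX).obj ((EtCoh.pull g).obj F)) n :=
  (post (inv (th πX g f₀ w₂ F)) n).comp (EtCore.HpullVia g' πY f₀ w₁ F n)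

theorem pb_apply (F : EtCoh.Ab Y) (n : ℕ) (x : EtCoh.H Y' ((EtCoh.pull πY).obj F) n) :
    pb g πY g' πX f₀ w₁ w₂ F n x = post (inv (th πX g f₀ w₂ F)) n (EtCore.HpullVia g' πY f₀ w₁ F n x) := rfl

theorem pb_post {F F' : EtCoh.Ab Y} (φ : F ⟶ F') (n : ℕ) (x : EtCoh.H Y' ((EtCoh.pull πY).obj F) n) :
    pb g πY g' πX f₀ w₁ w₂ F' n (post ((EtCoh.pull πY).map φ) n x) =
      post ((EtCoh.pull πX).map ((EtCoh.pull g).map φ)) n (pb g πY g' πX f₀ w₁ w₂ F n x) := by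
  have h1 : (EtCoh.pull f₀).map φ ≫ inv (th πX g f₀ w₂ F') =
      inv (th πX g f₀ w₂ F) ≫ (EtCoh.pull πX).map ((EtCoh.pull g).map φ) := by
    rw [IsIso.comp_inv_eq, Category.assoc, th_nat, IsIso.inv_hom_id_assoc]
  rw [pb_apply, pb_apply, HpullVia_post, post_comp, post_comp, h1]

theorem pb_via {s : Y' ⟶ Y'} {s' : X' ⟶ X'} (hs : s ≫ πY = πY) (hs' : s' ≫ πX = πX)
    (hc : s' ≫ g' = g' ≫ s) (F : EtCoh.Ab Y) (n : ℕ) (x : EtCoh.H Y' ((EtCoh.pull πY).obj F) n) :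
    pb g πY g' πX f₀ w₁ w₂ F n (EtCore.HpullVia s πY πY hs F n x) =
      EtCore.HpullVia s' πX πX hs' ((EtCoh.pull g).obj F) n (pb g πY g' πX f₀ w₁ w₂ F n x) := by
  have hs₀ : s' ≫ f₀ = f₀ := by rw [← w₂, ← Category.assoc, hs']
  have h1 : EtCore.HpullVia g' πY f₀ w₁ F n (EtCore.HpullVia s πY πY hs _ n x) =
      EtCore.HpullVia s' f₀ f₀ hs₀ F n (EtCore.HpullVia g' πY f₀ w₁ F n x) := by
    have w₃ : (g' ≫ s) ≫ πY = f₀ := by rw [Category.assoc, hs, w₁]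
    rw [HpullVia_comp g' s (g' ≫ s) f₀ πY πY rfl w₁ hs w₃, HpullVia_comp s' g' (g' ≫ s) f₀ f₀ πY hc hs₀ w₁ w₃]
  rw [pb_apply, pb_apply, h1, via_inv_th g πX f₀ w₂ hs' hs₀]

theorem pb_bijective [IsIso g'] (F : EtCoh.Ab Y) (n : ℕ) :
    Function.Bijective (pb g πY g' πX f₀ w₁ w₂ F n) := by
  have h1 : Function.Bijective (post (inv (th πX g f₀ w₂ F)) n) :=
    ⟨fun x y h => by
        have := congrArg (post (th πX g f₀ w₂ F) n) h
        rwa [post_comp, post_comp, IsIso.inv_hom_id, post_id, post_id] at this,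
      fun y => ⟨post (th πX g f₀ w₂ F) n y, by rw [post_comp, IsIso.hom_inv_id, post_id]⟩⟩
  exact h1.comp (bijective_HpullVia g' πY f₀ w₁ F n)

end Abs

variable {k : Type u} [Field k] (K : Type u) [Field K] [Algebra k K] [Fact FinFr.PullExact.{u}]
  {Λ : Type} [CommRing Λ] {X₁ X₂ : Scheme.{u}} {a₁ : X₁ ⟶ Spec (CommRingCat.of k)}
  {a₂ : X₂ ⟶ Spec (CommRingCat.of k)} (g : X₁ ⟶ X₂) (w : g ≫ a₂ = a₁)

/-- The pull back `HK K a₂ L n →+ HK K a₁ (g^* L) n`. -/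
noncomputable def pbK (L : EtLam.Sheaf Λ X₂) (n : ℕ) : HK K a₂ L n →+ HK K a₁ (EtLam.pullback g L) n :=
  pb g (FinFr.extπ K a₂) (FinFr.extHom K a₁ g w) (FinFr.extπ K a₁) (FinFr.extπ K a₁ ≫ g)
    (FinFr.extHom_fst _ _ _) rfl L.carrier n

omit [Fact FinFr.PullExact.{u}] in
theorem pbK_smul (L : EtLam.Sheaf Λ X₂) (n : ℕ) (r : Λ) (x : HK K a₂ L n) :
    pbK K g w L n (r • x) = r • pbK K g w L n x :=
  pb_post g (FinFr.extπ K a₂) (FinFr.extHom K a₁ g w) (FinFr.extπ K a₁) (FinFr.extπ K a₁ ≫ g)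
    (FinFr.extHom_fst _ _ _) rfl (L.act r) n x

theorem pbK_gal (L : EtLam.Sheaf Λ X₂) (n : ℕ) (σ : K ≃ₐ[k] K) (x : HK K a₂ L n) :
    pbK K g w L n (galK K a₂ σ L n x) = galK K a₁ σ (EtLam.pullback g L) n (pbK K g w L n x) :=
  pb_via g (FinFr.extπ K a₂) (FinFr.extHom K a₁ g w) (FinFr.extπ K a₁) (FinFr.extπ K a₁ ≫ g)
    (FinFr.extHom_fst _ _ _) rfl (FinFr.galAct_fst a₂ σ) (FinFr.galAct_fst a₁ σ) (galAct_extHom g w σ)
    L.carrier n x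

omit [Fact FinFr.PullExact.{u}] in
theorem pbK_bijective [IsIso g] (L : EtLam.Sheaf Λ X₂) (n : ℕ) : Function.Bijective (pbK K g w L n) := by
  have : IsIso (FinFr.extHom K a₁ g w) := by
    unfold FinFr.extHom
    infer_instance
  exact pb_bijective g (FinFr.extπ K a₂) (FinFr.extHom K a₁ g w) (FinFr.extπ K a₁) (FinFr.extπ K a₁ ≫ g)
    (FinFr.extHom_fst _ _ _) rfl L.carrier n

include w in
/-- Transport of `HK` along an isomorphism of `k`-schemes. -/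
theorem exists_pull [IsIso g] (L : EtLam.Sheaf Λ X₂) (n : ℕ) :
    ∃ e : HK K a₂ L n ≃ₗ[Λ] HK K a₁ (EtLam.pullback g L) n, ∀ (σ : K ≃ₐ[k] K) (x : HK K a₂ L n),
      e (galK K a₂ σ L n x) = galK K a₁ σ (EtLam.pullback g L) n (e x) := by
  let e : HK K a₂ L n →ₗ[Λ] HK K a₁ (EtLam.pullback g L) n :=
    { toFun := pbK K g w L n
      map_add' := map_add (pbK K g w L n)
      map_smul' := pbK_smul K g w L n }
  exact ⟨LinearEquiv.ofBijective e (pbK_bijective K g w L n), pbK_gal K g w L n⟩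

/-- The isomorphism `g^* t^* L ≅ (f₀)^* L`. -/
noncomputable def thC {X Y Z : Scheme.{u}} (g : X ⟶ Y) (t : Y ⟶ Z) (f₀ : X ⟶ Z) (h : g ≫ t = f₀)
    (L : EtLam.Sheaf Λ Z) :
    (EtLam.pullback g (EtLam.pullback t L)).carrier ⟶ (EtLam.pullback f₀ L).carrier :=
  th g t f₀ h L.carrier

omit [Fact FinFr.PullExact.{u}] in
theorem isIso_thC {X Y Z : Scheme.{u}} (g : X ⟶ Y) (t : Y ⟶ Z) (f₀ : X ⟶ Z) (h : g ≫ t = f₀)
    (L : EtLam.Sheaf Λ Z) : IsIso (thC g t f₀ h L) :=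
  inferInstanceAs (IsIso (th g t f₀ h L.carrier))

omit [Fact FinFr.PullExact.{u}] in
theorem equi_thC {X Y Z : Scheme.{u}} (g : X ⟶ Y) (t : Y ⟶ Z) (f₀ : X ⟶ Z) (h : g ≫ t = f₀)
    (L : EtLam.Sheaf Λ Z) :
    Equi (EtLam.pullback g (EtLam.pullback t L)).act (EtLam.pullback f₀ L).act (thC g t f₀ h L) :=
  fun r => th_nat g t f₀ h (L.act r)

include w in
/-- Pull back along an isomorphism `g`, for two composites `g ≫ t = y ≫ i`. -/
theorem exists_pull₂ {Z X' : Scheme.{u}} [IsIso g] (t : X₂ ⟶ Z) (y : X₁ ⟶ X') (i : X' ⟶ Z)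
    (h : g ≫ t = y ≫ i) (L : EtLam.Sheaf Λ Z) (n : ℕ) :
    ∃ e : HK K a₂ (EtLam.pullback t L) n ≃ₗ[Λ] HK K a₁ (EtLam.pullback y (EtLam.pullback i L)) n,
      ∀ (σ : K ≃ₐ[k] K) (x : HK K a₂ (EtLam.pullback t L) n),
        e (galK K a₂ σ (EtLam.pullback t L) n x) =
          galK K a₁ σ (EtLam.pullback y (EtLam.pullback i L)) n (e x) := by
  have i1 := isIso_thC g t (g ≫ t) rfl L
  have i2 := isIso_thC y i (g ≫ t) h.symm L
  obtain ⟨e₁, he₁⟩ := exists_pull K g w (EtLam.pullback t L) n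
  obtain ⟨e₂, he₂⟩ := LocMain.exists_map K a₁ (EtLam.pullback g (EtLam.pullback t L))
    (EtLam.pullback (g ≫ t) L) (thC g t (g ≫ t) rfl L) (equi_thC g t (g ≫ t) rfl L) n
  obtain ⟨e₃, he₃⟩ := LocMain.exists_map K a₁ (EtLam.pullback y (EtLam.pullback i L))
    (EtLam.pullback (g ≫ t) L) (thC y i (g ≫ t) h.symm L) (equi_thC y i (g ≫ t) h.symm L) n
  refine ⟨(e₁.trans e₂).trans e₃.symm, fun σ x => ?_⟩
  rw [LinearEquiv.trans_apply, LinearEquiv.trans_apply, he₁, he₂, LinearEquiv.trans_apply,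
    LinearEquiv.trans_apply]
  apply e₃.injective
  rw [he₃, LinearEquiv.apply_symm_apply, LinearEquiv.apply_symm_apply]

end Groth.Agent.Sga4h.H513.LocPull
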