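import Groth.Agent.Sga4h.H513.LocPull
import Groth.Agent.Sga4h.H616.RatDeg
import Mathlib.AlgebraicGeometry.PullbackCarrier

/-!
# The local side along the fibres

For `f : P ⟶ S` over a finite field `k`, the local side `loc K χ b N L` (the sum over the closed points of `P` of degree
`≤ N`) is the sum over the closed points `s` of `S` of degree `≤ N` of the local sides of the fibres `P_s` (`loc_fib`).
-/

set_option autoImplicit false
universe u v w

open CategoryTheory CategoryTheory.Limits AlgebraicGeometry Opposite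

namespace Groth.Agent.Sga4h.H513.LocSum

section Fin

/-- A finite sum over `α` is the sum over `β` of the sums over the fibres of `π : α → β`. -/
theorem finsum_fib {α : Type u} {β : Type v} {M : Type w} [AddCommMonoid M] [Finite α] (π : α → β) (F : α → M) :
    ∑ᶠ a, F a = ∑ᶠ b : β, ∑ᶠ a : {a : α // π a = b}, F a.1 := by
  classical
  have := Fintype.ofFinite α
  let T : Finset β := Finset.univ.image π
  have hsub : Function.support (fun b : β => ∑ᶠ a : {a : α // π a = b}, F a.1) ⊆ (T : Set β) := by
    intro b hb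
    by_contra hbT
    apply hb
    have : IsEmpty {a : α // π a = b} :=
      ⟨fun a => hbT (Finset.mem_coe.2 (Finset.mem_image.2 ⟨a.1, Finset.mem_univ _, a.2⟩))⟩
    exact finsum_of_isEmpty _
  rw [finsum_eq_sum_of_support_subset _ hsub, finsum_eq_sum_of_fintype,
    ← Finset.sum_fiberwise_of_maps_to (g := π) (t := T) (fun a _ => Finset.mem_image_of_mem π (Finset.mem_univ a))]
  refine Finset.sum_congr rfl fun b _ => ?_
  rw [finsum_eq_sum_of_fintype, Finset.sum_subtype (Finset.univ.filter fun a => π a = b) (p := fun a => π a = b)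
    (by simp) F]

end Fin

section Geo

variable {Y X : Scheme.{u}} (i : Y ⟶ X) [IsClosedImmersion i]

/-- Residue fields of a closed subscheme. -/
theorem isIso_residueFieldMap (y : Y) : IsIso (i.residueFieldMap y) := by
  rw [ConcreteCategory.isIso_iff_bijective]
  refine ⟨RingHom.injective _, fun z => ?_⟩
  obtain ⟨t, rfl⟩ := Y.residue_surjective y z
  obtain ⟨r, rfl⟩ := i.stalkMap_surjective y t
  exact ⟨X.residue (i y) r, congrArg (fun f => f.hom r) (Scheme.residue_residueFieldMap i y)⟩

theorem isClosed_singleton_iff (y : Y) : IsClosed ({y} : Set Y) ↔ IsClosed ({i y} : Set X) := by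
  rw [← Set.image_singleton]
  exact i.isClosedEmbedding.isClosed_iff_image_isClosed

variable {k : Type u} [Field k] (b : X ⟶ Spec (CommRingCat.of k))

theorem resAlgHom_comp {Y X : Scheme.{u}} (i : Y ⟶ X) (b : X ⟶ Spec (CommRingCat.of k)) (y : Y) :
    FinFr.resAlgHom (i ≫ b) y = (i.residueFieldMap y).hom.comp (FinFr.resAlgHom b (i y)) := by
  have h : Spec.preimage (Y.fromSpecResidueField y ≫ i ≫ b) =
      Spec.preimage (X.fromSpecResidueField (i y) ≫ b) ≫ i.residueFieldMap y := by
    apply Spec.map_injective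
    rw [Spec.map_comp, Spec.map_preimage, Spec.map_preimage, ← Category.assoc, ← Category.assoc,
      Scheme.Hom.SpecMap_residueFieldMap_fromSpecResidueField]
  exact congrArg (fun f => f.hom) h

theorem ptDeg_comp (y : Y) : FinFr.ptDeg (i ≫ b) y = FinFr.ptDeg b (i y) := by
  let a1 : Algebra k (Y.residueField y : Type u) := (FinFr.resAlgHom (i ≫ b) y).toAlgebra
  let a2 : Algebra k (X.residueField (i y) : Type u) := (FinFr.resAlgHom b (i y)).toAlgebra
  have := isIso_residueFieldMap i y
  have hb : Function.Bijective (i.residueFieldMap y) := ConcreteCategory.bijective_of_isIso (i.residueFieldMap y)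
  let e : (X.residueField (i y) : Type u) →ₗ[k] (Y.residueField y : Type u) :=
    { toFun := i.residueFieldMap y
      map_add' := map_add (i.residueFieldMap y).hom
      map_smul' := fun c z => by
        rw [Algebra.smul_def, Algebra.smul_def]
        refine (map_mul (i.residueFieldMap y).hom _ _).trans ?_
        congr 1
        exact (congrArg (fun f => f c) (resAlgHom_comp i b y)).symm }
  exact (LinearEquiv.finrank_eq (LinearEquiv.ofBijective e hb)).symm

/-- The degree of the image of a point of finite residue field. -/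
theorem ptDeg_le {P S : Scheme.{u}} (f : P ⟶ S) (c : S ⟶ Spec (CommRingCat.of k)) (x : P)
    (h : 0 < FinFr.ptDeg (f ≫ c) x) : 0 < FinFr.ptDeg c (f x) ∧ FinFr.ptDeg c (f x) ≤ FinFr.ptDeg (f ≫ c) x := by
  let a1 : Algebra k (P.residueField x : Type u) := (FinFr.resAlgHom (f ≫ c) x).toAlgebra
  let a2 : Algebra k (S.residueField (f x) : Type u) := (FinFr.resAlgHom c (f x)).toAlgebra
  let e : (S.residueField (f x) : Type u) →ₗ[k] (P.residueField x : Type u) :=
    { toFun := f.residueFieldMap x
      map_add' := map_add (f.residueFieldMap x).hom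
      map_smul' := fun c' z => by
        rw [Algebra.smul_def, Algebra.smul_def]
        refine (map_mul (f.residueFieldMap x).hom _ _).trans ?_
        congr 1
        exact (congrArg (fun g => g c') (resAlgHom_comp f c x)).symm }
  have hf : Module.Finite k (P.residueField x : Type u) := Module.finite_of_finrank_pos h
  have he : Function.Injective e := RingHom.injective (f.residueFieldMap x).hom
  have hf' : Module.Finite k (S.residueField (f x) : Type u) := Module.Finite.of_injective e he
  exact ⟨Module.finrank_pos, LinearMap.finrank_le_finrank_of_injective he⟩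

end Geo

section Points

variable {k : Type u} [Field k]

/-- The closed points of degree at most `N`. -/
abbrev PtN {P : Scheme.{u}} (b : P ⟶ Spec (CommRingCat.of k)) (N : ℕ) : Type u :=
  {x : FinFr.ClosedPt P // FinFr.ptDeg b x.1 ≤ N}

section proj

variable {P S : Scheme.{u}} (f : P ⟶ S) (c : S ⟶ Spec (CommRingCat.of k))

/-- The structure morphism of a fibre. -/
noncomputable abbrev fibStr (s : S) : pullback f (S.fromSpecResidueField s) ⟶ Spec (CommRingCat.of k) :=
  pullback.snd f (S.fromSpecResidueField s) ≫ S.fromSpecResidueField s ≫ c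

theorem fibStr_eq (s : S) : pullback.fst f (S.fromSpecResidueField s) ≫ f ≫ c = fibStr f c s := by
  rw [← Category.assoc, pullback.condition, Category.assoc]

theorem isClosedImmersion_fst (s : S) (hs : IsClosed ({s} : Set S)) :
    IsClosedImmersion (pullback.fst f (S.fromSpecResidueField s)) := by
  have := isClosed_singleton_iff_isClosedImmersion.1 hs
  infer_instance

theorem apply_fst (s : S) (y : ↥(pullback f (S.fromSpecResidueField s))) :
    f (pullback.fst f (S.fromSpecResidueField s) y) = s := by
  have h := congrArg (fun g : pullback f (S.fromSpecResidueField s) ⟶ S => g y)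
    (pullback.condition (f := f) (g := S.fromSpecResidueField s))
  have h2 : f (pullback.fst f (S.fromSpecResidueField s) y) =
      S.fromSpecResidueField s (pullback.snd f (S.fromSpecResidueField s) y) := by
    simpa only [Scheme.Hom.comp_apply] using h
  rw [h2, Scheme.fromSpecResidueField_apply]

variable [Fintype k] [LocallyOfFiniteType c] [LocallyOfFiniteType (f ≫ c)] (N : ℕ)

/-- The projection on closed points. -/
noncomputable def projN (x : PtN (f ≫ c) N) : PtN c N :=
  have h := ptDeg_le f c x.1.1 (Groth.Agent.Sga4h.H616.RatDeg.ptDeg_pos (f ≫ c) x.1.1 x.1.2)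
  ⟨⟨f x.1.1, Groth.Agent.Sga4h.H911.PtCount.isClosed_of_deg_pos k c (f x.1.1) h.1⟩, h.2.trans x.2⟩

theorem projN_val (x : PtN (f ≫ c) N) : (projN f c N x).1.1 = f x.1.1 := rfl

/-- The closed points of the fibre. -/
noncomputable def fibN (s : PtN c N) (y : PtN (fibStr f c s.1.1) N) : {x : PtN (f ≫ c) N // projN f c N x = s} :=
  have hi := isClosedImmersion_fst f s.1.1 s.1.2
  ⟨⟨⟨pullback.fst f (S.fromSpecResidueField s.1.1) y.1.1, (isClosed_singleton_iff _ _).1 y.1.2⟩, by
    have h := ptDeg_comp (pullback.fst f (S.fromSpecResidueField s.1.1)) (f ≫ c) y.1.1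
    rw [← h, fibStr_eq f c s.1.1]
    exact y.2⟩, Subtype.ext (Subtype.ext (apply_fst f s.1.1 y.1.1))⟩

theorem fibN_val (s : PtN c N) (y : PtN (fibStr f c s.1.1) N) :
    (fibN f c N s y).1.1.1 = pullback.fst f (S.fromSpecResidueField s.1.1) y.1.1 := rfl

theorem fibN_bijective (s : PtN c N) : Function.Bijective (fibN f c N s) := by
  have hi := isClosedImmersion_fst f s.1.1 s.1.2
  constructor
  · intro y y' h
    have h1 : pullback.fst f (S.fromSpecResidueField s.1.1) y.1.1 =
        pullback.fst f (S.fromSpecResidueField s.1.1) y'.1.1 := by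
      rw [← fibN_val, ← fibN_val, h]
    exact Subtype.ext (Subtype.ext
      ((pullback.fst f (S.fromSpecResidueField s.1.1)).isClosedEmbedding.injective h1))
  · rintro ⟨x, hx⟩
    have h1 : f x.1.1 = s.1.1 := by rw [← projN_val f c N x, hx]
    have h2 : x.1.1 ∈ Set.range (pullback.fst f (S.fromSpecResidueField s.1.1)) := by
      rw [Scheme.Pullback.range_fst, Scheme.range_fromSpecResidueField]
      exact h1
    obtain ⟨y, hy⟩ := h2
    refine ⟨⟨⟨y, (isClosed_singleton_iff (pullback.fst f (S.fromSpecResidueField s.1.1)) y).2 ?_⟩, ?_⟩, ?_⟩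
    · rw [hy]
      exact x.1.2
    · rw [← fibStr_eq f c s.1.1, ptDeg_comp (pullback.fst f (S.fromSpecResidueField s.1.1)) (f ≫ c) y, hy]
      exact x.2
    · exact Subtype.ext (Subtype.ext (Subtype.ext hy))

end proj

end Points

section Main

open Groth.Agent.Sga4h.H925.Defs Groth.Agent.Sga4h.H925.Inv Groth.Agent.Sga4h.H513.LocFin
  Groth.Agent.Sga4h.H513.LocPull

variable {k : Type u} [Field k] [Fintype k] (K : Type u) [Field K] [Algebra k K] [Algebra.IsAlgebraic k K]
  [Fact FinFr.PullExact.{u}] {Λ : Type} [Field Λ] {A : Type w} [AddCommGroup A] (χ : Inv.{u + 1} Λ A)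

/-- Local terms along a closed immersion. -/
theorem locV_closed {Y X : Scheme.{u}} (i : Y ⟶ X) [IsClosedImmersion i] (b : X ⟶ Spec (CommRingCat.of k))
    (b' : Y ⟶ Spec (CommRingCat.of k)) (w : i ≫ b = b') (y : Y) (L : EtLam.Sheaf Λ X)
    (hfin : FiniteDimensional Λ (HK K (X.fromSpecResidueField (i y) ≫ b)
      (EtLam.pullback (X.fromSpecResidueField (i y)) L) 0)) :
    locV K χ b' y (EtLam.pullback i L) = locV K χ b (i y) L := by
  have := isIso_residueFieldMap i y
  have hw : Spec.map (i.residueFieldMap y) ≫ X.fromSpecResidueField (i y) = Y.fromSpecResidueField y ≫ i :=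
    Scheme.Hom.SpecMap_residueFieldMap_fromSpecResidueField i y
  have hw' : Spec.map (i.residueFieldMap y) ≫ X.fromSpecResidueField (i y) ≫ b =
      Y.fromSpecResidueField y ≫ b' := by
    rw [← w, ← Category.assoc, hw, Category.assoc]
  obtain ⟨e, he⟩ := exists_pull₂ K (Spec.map (i.residueFieldMap y)) hw' (X.fromSpecResidueField (i y))
    (Y.fromSpecResidueField y) i hw L 0
  exact (χ.val_congr e.symm (frobK K (Y.fromSpecResidueField y ≫ b')
    (EtLam.pullback (Y.fromSpecResidueField y) (EtLam.pullback i L)) 0)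
    (frobK K (X.fromSpecResidueField (i y) ≫ b) (EtLam.pullback (X.fromSpecResidueField (i y)) L) 0)
    (fun x => by
      apply e.injective
      rw [LinearEquiv.apply_symm_apply]
      refine Eq.trans ?_ (he (FinFr.arith k K).symm (e.symm x)).symm
      rw [LinearEquiv.apply_symm_apply]
      rfl))

/-- **The local side along the fibres.** -/
theorem loc_fib' {P S : Scheme.{u}} (f : P ⟶ S) (c : S ⟶ Spec (CommRingCat.of k)) [LocallyOfFiniteType c]
    [LocallyOfFiniteType (f ≫ c)] (N : ℕ) [Finite (PtN (f ≫ c) N)] (L : EtLam.Sheaf Λ P)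
    (hfin : ∀ x : P, IsClosed ({x} : Set P) → FiniteDimensional Λ (HK K (P.fromSpecResidueField x ≫ f ≫ c)
      (EtLam.pullback (P.fromSpecResidueField x) L) 0)) :
    loc K χ (f ≫ c) N L = ∑ᶠ s : PtN c N, loc K χ (fibStr f c s.1.1) N
      (EtLam.pullback (pullback.fst f (S.fromSpecResidueField s.1.1)) L) := by
  have h1 : loc K χ (f ≫ c) N L = ∑ᶠ x : PtN (f ≫ c) N, locV K χ (f ≫ c) x.1.1 L := rfl
  rw [h1, finsum_fib (projN f c N) (fun x : PtN (f ≫ c) N => locV K χ (f ≫ c) x.1.1 L)]
  refine finsum_congr fun s => ?_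
  have hi := isClosedImmersion_fst f s.1.1 s.1.2
  refine (finsum_eq_of_bijective (fibN f c N s) (fibN_bijective f c N s) fun y => ?_).symm
  exact locV_closed K χ (pullback.fst f (S.fromSpecResidueField s.1.1)) (f ≫ c) (fibStr f c s.1.1)
    (fibStr_eq f c s.1.1) y.1.1 L (hfin _ ((isClosed_singleton_iff _ _).1 y.1.2))

/-- **The local side along the fibres.** -/
theorem loc_fib {P S : Scheme.{u}} (f : P ⟶ S) (b : P ⟶ Spec (CommRingCat.of k)) (c : S ⟶ Spec (CommRingCat.of k))
    (w : f ≫ c = b) [LocallyOfFiniteType c] [LocallyOfFiniteType b] (N : ℕ)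
    [Finite {x : FinFr.ClosedPt P // FinFr.ptDeg b x.1 ≤ N}] (L : EtLam.Sheaf Λ P)
    (hfin : ∀ x : P, IsClosed ({x} : Set P) → FiniteDimensional Λ (HK K (P.fromSpecResidueField x ≫ b)
      (EtLam.pullback (P.fromSpecResidueField x) L) 0)) :
    loc K χ b N L = ∑ᶠ s : {s : FinFr.ClosedPt S // FinFr.ptDeg c s.1 ≤ N},
      loc K χ (pullback.snd f (S.fromSpecResidueField s.1.1) ≫ S.fromSpecResidueField s.1.1 ≫ c) N
        (EtLam.pullback (pullback.fst f (S.fromSpecResidueField s.1.1)) L) := by
  subst w
  exact loc_fib' K χ f c N L hfin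

end Main

end Groth.Agent.Sga4h.H513.LocSum
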